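import Groth.Prelude.Def_Curves
import Mathlib

/-!
# Absolutely integrally closed rings and finite coverings of their spectra
-/

set_option autoImplicit false

universe u

open CategoryTheory CategoryTheory.Limits AlgebraicGeometry TopologicalSpace
open scoped Polynomial

namespace Groth.Agent.ModPairLib.SemiVal.AIC

/-- An element integral over an absolutely integrally closed domain, in a domain containing it,
lies in it. -/
lemma exists_eq_of_isIntegral {A B : Type u} [CommRing A] [Nontrivial A] [CommRing B] [IsDomain B]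
    [Algebra A B] (hA : Curves.IsAIC A) {b : B} (hb : IsIntegral A b) :
    ∃ r : A, algebraMap A B r = b := by
  obtain ⟨F, hF, hFb⟩ := hb
  rw [← Polynomial.aeval_def] at hFb
  suffices key : ∀ n, ∀ F : A[X], F.Monic → F.natDegree = n → Polynomial.aeval b F = 0 →
      ∃ r : A, algebraMap A B r = b from key _ F hF rfl hFb
  intro n
  induction n with
  | zero =>
    intro F hF hn hFb
    rw [(hF.natDegree_eq_zero).1 hn, map_one] at hFb
    exact absurd hFb one_ne_zero
  | succ n ih =>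
    intro F hF hn hFb
    obtain ⟨r, hr⟩ := hA F hF (by omega)
    obtain ⟨G, hG⟩ := Polynomial.dvd_iff_isRoot.2 (show F.IsRoot r from hr)
    have hGm : G.Monic := (Polynomial.monic_X_sub_C r).of_mul_monic_left (hG ▸ hF)
    have hGn : G.natDegree = n := by
      have := (Polynomial.monic_X_sub_C r).natDegree_mul hGm
      rw [← hG, hn, Polynomial.natDegree_X_sub_C] at this
      omega
    rw [hG, map_mul, map_sub, Polynomial.aeval_X, Polynomial.aeval_C, mul_eq_zero] at hFb
    rcases hFb with h | h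
    · exact ⟨r, (sub_eq_zero.1 h).symm⟩
    · exact ih G hGm hGn h

lemma isAIC_of_surjective {A B : Type u} [CommRing A] [CommRing B] (hA : Curves.IsAIC A)
    (f : A →+* B) (hf : Function.Surjective f) : Curves.IsAIC B := by
  intro F hF hd
  have : Nontrivial B := by
    by_contra hn
    rw [not_nontrivial_iff_subsingleton] at hn
    simp [Polynomial.natDegree_of_subsingleton] at hd
  obtain ⟨G, hG, hGd, hGm⟩ := Polynomial.lifts_and_natDegree_eq_and_monic
    (Polynomial.map_surjective f hf F) hF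
  obtain ⟨r, hr⟩ := hA G hGm (hGd ▸ hd)
  exact ⟨f r, by rw [← hG, Polynomial.eval_map, Polynomial.eval₂_at_apply, hr, map_zero]⟩

lemma isAIC_localization {A : Type u} [CommRing A] (hA : Curves.IsAIC A) (M : Submonoid A)
    (S : Type u) [CommRing S] [Algebra A S] [IsLocalization M S] : Curves.IsAIC S := by
  intro p hp hd
  have : Nontrivial S := by
    by_contra hn
    rw [not_nontrivial_iff_subsingleton] at hn
    simp [Polynomial.natDegree_of_subsingleton] at hd
  classical
  obtain ⟨s, hs⟩ := IsLocalization.exist_integer_multiples_of_finset M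
    ((Finset.range p.natDegree).image p.coeff)
  set σ := algebraMap A S s
  have hlift : Polynomial.scaleRoots p σ ∈ Polynomial.lifts (algebraMap A S) := by
    rw [Polynomial.lifts_iff_coeff_lifts]
    intro i
    rw [Polynomial.coeff_scaleRoots]
    rcases lt_trichotomy i p.natDegree with h | h | h
    · obtain ⟨c, hc⟩ := hs (p.coeff i) (Finset.mem_image.2 ⟨i, Finset.mem_range.2 h, rfl⟩)
      refine ⟨c * (s : A) ^ (p.natDegree - i - 1), ?_⟩
      rw [map_mul, map_pow, hc, Algebra.smul_def]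
      conv_rhs => rw [show p.natDegree - i = (p.natDegree - i - 1) + 1 by omega, pow_succ]
      ring
    · exact ⟨1, by rw [map_one, h, hp.coeff_natDegree, Nat.sub_self, pow_zero, one_mul]⟩
    · exact ⟨0, by rw [map_zero, Polynomial.coeff_eq_zero_of_natDegree_lt h, zero_mul]⟩
  obtain ⟨G, hG, hGd, hGm⟩ := Polynomial.lifts_and_natDegree_eq_and_monic hlift
    ((Polynomial.monic_scaleRoots_iff _).2 hp)
  rw [Polynomial.natDegree_scaleRoots] at hGd
  obtain ⟨r, hr⟩ := hA G hGm (hGd ▸ hd)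
  refine ⟨IsLocalization.mk' S r s, ?_⟩
  have h1 := Polynomial.scaleRoots_eval₂_mul (p := p) (RingHom.id S) (IsLocalization.mk' S r s) σ
  simp only [RingHom.id_apply, Polynomial.eval₂_id] at h1
  rw [IsLocalization.mk'_spec', ← hG, Polynomial.eval_map,
    Polynomial.eval₂_at_apply, hr, map_zero] at h1
  exact ((IsLocalization.map_units S s).pow p.natDegree).mul_right_eq_zero.1 h1.symm

lemma isAlgClosed_fractionRing {A : Type u} [CommRing A] [IsDomain A] (hA : Curves.IsAIC A) :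
    IsAlgClosed (FractionRing A) :=
  IsAlgClosed.of_exists_root _ fun p hp hirr =>
    isAIC_localization hA (nonZeroDivisors A) _ p hp hirr.natDegree_pos

/-- A finite algebra with a prime over the generic point has a retraction. -/
lemma exists_retraction {A B : CommRingCat.{u}} [IsDomain A] (hA : Curves.IsAIC A) (φ : A ⟶ B)
    (hφ : φ.hom.Finite) (q : PrimeSpectrum B) (hq : q.asIdeal.comap φ.hom = ⊥) :
    ∃ ψ : B ⟶ A, φ ≫ ψ = 𝟙 A := by
  algebraize [φ.hom]
  let C := (B : Type u) ⧸ q.asIdeal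
  have hinj : Function.Injective (algebraMap (A : Type u) C) := by
    rw [injective_iff_map_eq_zero]
    intro x hx
    rw [IsScalarTower.algebraMap_apply (A : Type u) B C, Ideal.Quotient.algebraMap_eq,
      Ideal.Quotient.eq_zero_iff_mem] at hx
    have hx' : x ∈ q.asIdeal.comap φ.hom := hx
    rwa [hq, Ideal.mem_bot] at hx'
  have : Module.Finite (A : Type u) C := inferInstance
  have hsurj : Function.Surjective (algebraMap (A : Type u) C) := fun c =>
    exists_eq_of_isIntegral hA (Algebra.IsIntegral.isIntegral c)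
  let e := RingEquiv.ofBijective _ ⟨hinj, hsurj⟩
  refine ⟨CommRingCat.ofHom (e.symm.toRingHom.comp (Ideal.Quotient.mk q.asIdeal)), ?_⟩
  ext x
  exact e.symm_apply_apply x

/-- Morphisms from the spectrum of an absolutely integrally closed domain lift along finite
coverings. -/
theorem exists_lift_finite {T X : Scheme.{u}} [IsAffine T] [IsDomain Γ(T, ⊤)]
    (hA : Curves.IsAIC Γ(T, ⊤)) {ι : Type*} {Y : ι → Scheme.{u}} (w : ∀ i, Y i ⟶ X)
    (hw : ∀ i, IsFinite (w i)) (hs : ∀ x, ∃ i, x ∈ Set.range (w i)) (g : T ⟶ X) :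
    ∃ (i : ι) (h : T ⟶ Y i), h ≫ w i = g := by
  let η : Spec Γ(T, ⊤) := (⟨⊥, Ideal.isPrime_bot⟩ : PrimeSpectrum Γ(T, ⊤))
  obtain ⟨i, y, hy⟩ := hs (g (T.isoSpec.inv η))
  have := hw i
  let g' := T.isoSpec.inv ≫ g
  obtain ⟨z, hz, -⟩ := Scheme.Pullback.exists_preimage_pullback (f := g') (g := w i) η y
    (by rw [hy, Scheme.Hom.comp_apply])
  have hfin : IsFinite (pullback.fst g' (w i)) := inferInstance
  have : IsAffine (pullback g' (w i)) := isAffine_of_isAffineHom (pullback.fst g' (w i))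
  let e := (pullback g' (w i)).isoSpec
  obtain ⟨φ, hφ⟩ : ∃ φ : Γ(T, ⊤) ⟶ Γ(pullback g' (w i), ⊤),
      Spec.map φ = e.inv ≫ pullback.fst g' (w i) :=
    ⟨Spec.preimage (e.inv ≫ pullback.fst g' (w i)), Spec.map_preimage _⟩
  have hφfin : φ.hom.Finite := by
    have h1 : IsFinite (Spec.map φ) := by rw [hφ]; infer_instance
    exact (IsFinite.SpecMap_iff φ).1 h1
  have hcomap : (e.hom z).asIdeal.comap φ.hom = ⊥ := by
    have h2 : Spec.map φ (e.hom z) = η := by
      rw [hφ, ← Scheme.Hom.comp_apply, Iso.hom_inv_id_assoc]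
      exact hz
    exact congrArg PrimeSpectrum.asIdeal h2
  obtain ⟨ψ, hψ⟩ := exists_retraction hA φ hφfin _ hcomap
  refine ⟨i, T.isoSpec.hom ≫ Spec.map ψ ≫ e.inv ≫ pullback.snd g' (w i), ?_⟩
  simp only [Category.assoc]
  rw [← pullback.condition, ← Category.assoc e.inv, ← hφ, ← Category.assoc (Spec.map ψ),
    ← Spec.map_comp, hψ, Spec.map_id, Category.id_comp, Iso.hom_inv_id_assoc]

lemma retraction_of_section {T : Scheme.{u}} [IsAffine T] {B : CommRingCat.{u}} (φ : Γ(T, ⊤) ⟶ B)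
    (h : T ⟶ Spec B) (e : h ≫ Spec.map φ ≫ T.isoSpec.inv = 𝟙 T) :
    ∃ ψ : B ⟶ Γ(T, ⊤), φ ≫ ψ = 𝟙 _ := by
  refine ⟨Spec.preimage (T.isoSpec.inv ≫ h), Spec.map_injective ?_⟩
  rw [Spec.map_comp, Spec.map_preimage, Spec.map_id, Category.assoc,
    ← cancel_mono T.isoSpec.inv, Category.assoc, Category.assoc, Category.id_comp, e,
    Category.comp_id]

/-- The closed subscheme of an affine scheme cut out by an ideal. -/
noncomputable def clI (T : Scheme.{u}) [IsAffine T] (I : Ideal Γ(T, ⊤)) :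
    Spec (CommRingCat.of (Γ(T, ⊤) ⧸ I)) ⟶ T :=
  Spec.map (CommRingCat.ofHom (Ideal.Quotient.mk I)) ≫ T.isoSpec.inv

instance (T : Scheme.{u}) [IsAffine T] (I : Ideal Γ(T, ⊤)) : IsFinite (clI T I) := by
  have : IsClosedImmersion (Spec.map (CommRingCat.ofHom (Ideal.Quotient.mk I))) :=
    IsClosedImmersion.spec_of_surjective _ Ideal.Quotient.mk_surjective
  unfold clI
  infer_instance

lemma exists_mem_range_clI (T : Scheme.{u}) [IsAffine T] (x : T) :
    ∃ p : minimalPrimes Γ(T, ⊤), x ∈ Set.range (clI T p.1) := by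
  obtain ⟨p, hp, hle⟩ := Ideal.exists_minimalPrimes_le (I := ⊥)
    (J := (T.isoSpec.hom x).asIdeal) bot_le
  refine ⟨⟨p, hp⟩, ?_⟩
  have : T.isoSpec.hom x ∈ Set.range (PrimeSpectrum.comap (Ideal.Quotient.mk p)) := by
    rw [range_comap_of_surjective _ _ Ideal.Quotient.mk_surjective]
    exact (PrimeSpectrum.mem_zeroLocus _ _).2 (by rwa [Ideal.mk_ker, SetLike.coe_subset_coe])
  obtain ⟨z, hz⟩ := this
  refine ⟨z, ?_⟩
  show T.isoSpec.inv (Spec.map (CommRingCat.ofHom (Ideal.Quotient.mk p)) z) = x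
  rw [show Spec.map (CommRingCat.ofHom (Ideal.Quotient.mk p)) z = T.isoSpec.hom x from hz,
    ← Scheme.Hom.comp_apply, Iso.hom_inv_id]
  rfl

lemma eq_bot_of_clI (T : Scheme.{u}) [IsAffine T] (I : Ideal Γ(T, ⊤))
    (h : T ⟶ Spec (CommRingCat.of (Γ(T, ⊤) ⧸ I))) (e : h ≫ clI T I = 𝟙 T) : I = ⊥ := by
  obtain ⟨ψ, hψ⟩ := retraction_of_section (CommRingCat.ofHom (Ideal.Quotient.mk I)) h e
  rw [eq_bot_iff]
  intro x hx
  have h1 : ψ.hom (Ideal.Quotient.mk I x) = x := congrArg (fun f => f.hom x) hψ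
  rw [Ideal.Quotient.eq_zero_iff_mem.2 hx, map_zero] at h1
  exact h1.symm

/-- The covering of an affine scheme by the roots of a monic polynomial. -/
noncomputable def rootCover (T : Scheme.{u}) [IsAffine T] (F : Γ(T, ⊤)[X]) :
    Spec (CommRingCat.of (AdjoinRoot F)) ⟶ T :=
  Spec.map (CommRingCat.ofHom (AdjoinRoot.of F)) ≫ T.isoSpec.inv

lemma rootCover_props (T : Scheme.{u}) [IsAffine T] (F : Γ(T, ⊤)[X]) (hF : F.Monic)
    (hd : 0 < F.natDegree) :
    IsFinite (rootCover T F) ∧ Flat (rootCover T F) ∧ ∀ x : T, x ∈ Set.range (rootCover T F) := by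
  have hfin : Module.Finite Γ(T, ⊤) (AdjoinRoot F) := hF.finite_adjoinRoot
  have hfree : Module.Free Γ(T, ⊤) (AdjoinRoot F) := hF.free_adjoinRoot
  have h1 : IsFinite (Spec.map (CommRingCat.ofHom (AdjoinRoot.of F))) :=
    (IsFinite.SpecMap_iff _).2 (RingHom.finite_algebraMap.2 hfin)
  have h2 : Flat (Spec.map (CommRingCat.ofHom (AdjoinRoot.of F))) :=
    (HasRingHomProperty.Spec_iff (P := @Flat)).2 (RingHom.flat_algebraMap_iff.2 inferInstance)
  refine ⟨by unfold rootCover; infer_instance, by unfold rootCover; infer_instance, fun x => ?_⟩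
  have : Nontrivial Γ(T, ⊤) := ⟨⟨1, 0, fun h01 => (T.isoSpec.hom x).2.ne_top
    ((Ideal.eq_top_iff_one _).2 (h01 ▸ Ideal.zero_mem _))⟩⟩
  have : Algebra.IsIntegral Γ(T, ⊤) (AdjoinRoot F) := inferInstance
  have hinj : Function.Injective (algebraMap Γ(T, ⊤) (AdjoinRoot F)) :=
    (injective_iff_map_eq_zero _).2 fun c hc => by
      by_contra hne
      exact hF.not_dvd_of_natDegree_lt (Polynomial.C_ne_zero.2 hne)
        (by rwa [Polynomial.natDegree_C]) (AdjoinRoot.mk_eq_zero.1 hc)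
  obtain ⟨q, hq, hqc⟩ := Ideal.exists_ideal_over_prime_of_isIntegral (S := AdjoinRoot F)
    (T.isoSpec.hom x).asIdeal ⊥ (by
      intro y hy
      rw [Ideal.mem_comap, Ideal.mem_bot] at hy
      rw [(injective_iff_map_eq_zero _).1 hinj y hy]
      exact Ideal.zero_mem _)
  refine ⟨(⟨q, hqc.1⟩ : PrimeSpectrum (AdjoinRoot F)), ?_⟩
  show T.isoSpec.inv (Spec.map (CommRingCat.ofHom (AdjoinRoot.of F))
    (⟨q, hqc.1⟩ : PrimeSpectrum (AdjoinRoot F))) = x
  have h3 : Spec.map (CommRingCat.ofHom (AdjoinRoot.of F))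
      (⟨q, hqc.1⟩ : PrimeSpectrum (AdjoinRoot F)) = T.isoSpec.hom x :=
    PrimeSpectrum.ext hqc.2
  rw [h3, ← Scheme.Hom.comp_apply, Iso.hom_inv_id]
  rfl

lemma exists_root_of_rootCover (T : Scheme.{u}) [IsAffine T] (F : Γ(T, ⊤)[X])
    (h : T ⟶ Spec (CommRingCat.of (AdjoinRoot F))) (e : h ≫ rootCover T F = 𝟙 T) :
    ∃ r, F.eval r = 0 := by
  obtain ⟨ψ, hψ⟩ := retraction_of_section (CommRingCat.ofHom (AdjoinRoot.of F)) h e
  refine ⟨ψ.hom (AdjoinRoot.root F), ?_⟩
  have h1 := congrArg ψ.hom (AdjoinRoot.eval₂_root F)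
  rw [map_zero, Polynomial.hom_eval₂] at h1
  have h2 : ψ.hom.comp (AdjoinRoot.of F) = RingHom.id _ := congrArg CommRingCat.Hom.hom hψ
  rwa [h2, Polynomial.eval₂_id] at h1

end Groth.Agent.ModPairLib.SemiVal.AIC
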