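import Groth.Agent.ModPairLib.SemiVal.Ring
import Mathlib

/-!
# Generic rings of henselian semi-valuation rings are henselian
-/

set_option autoImplicit false

universe u

open scoped Polynomial

namespace Groth.Agent.ModPairLib.SemiVal.Hensel

open Ring

/-- Newton's lemma: a root near `α` if `f(α) = f'(α)² c` with `c` in the maximal ideal. -/
lemma exists_root_newton {R : Type u} [CommRing R] [HenselianLocalRing R] (f : R[X]) (α c : R)
    (hc : c ∈ IsLocalRing.maximalIdeal R)
    (h : f.eval α = f.derivative.eval α ^ 2 * c) :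
    ∃ z : R, f.eval (α + f.derivative.eval α * (c * z)) = 0 := by
  set d := f.derivative.eval α
  set t := Polynomial.taylor α f
  obtain ⟨n, hn⟩ : ∃ n, t.natDegree < n + 3 := ⟨t.natDegree, by omega⟩
  let lo : R[X] := ∑ j ∈ Finset.range (n + 1),
    Polynomial.C (t.coeff (j + 2) * d ^ j * c ^ (j + 1)) * Polynomial.X ^ (n - j)
  let H : R[X] := Polynomial.X ^ (n + 1) * (Polynomial.X + 1) + lo
  have hlo : lo.degree < ((n + 2 : ℕ) : WithBot ℕ) := by
    refine (Polynomial.degree_sum_le _ _).trans_lt ?_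
    rw [Finset.sup_lt_iff (WithBot.bot_lt_coe _)]
    intro j _
    refine (Polynomial.degree_C_mul_X_pow_le _ _).trans_lt ?_
    exact_mod_cast (show n - j < n + 2 by omega)
  have hmain : (Polynomial.X ^ (n + 1) * (Polynomial.X + 1) : R[X]).Monic :=
    (Polynomial.monic_X_pow _).mul (by simpa using Polynomial.monic_X_add_C (1 : R))
  have hdeg : (Polynomial.X ^ (n + 1) * (Polynomial.X + 1) : R[X]).degree = ((n + 2 : ℕ) : WithBot ℕ) := by
    rw [Polynomial.degree_eq_natDegree hmain.ne_zero, (Polynomial.monic_X_pow (n + 1)).natDegree_mul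
      (by simpa using Polynomial.monic_X_add_C (1 : R)), Polynomial.natDegree_X_pow,
      show (Polynomial.X + 1 : R[X]) = Polynomial.X + Polynomial.C 1 by simp,
      Polynomial.natDegree_X_add_C]
  have hH : H.Monic := hmain.add_of_left (hdeg ▸ hlo)
  let π := IsLocalRing.residue R
  have hπc : π c = 0 := Ideal.Quotient.eq_zero_iff_mem.2 hc
  have hmap : H.map π = Polynomial.X ^ (n + 1) * (Polynomial.X + 1) := by
    simp only [H, lo, Polynomial.map_add, Polynomial.map_mul, Polynomial.map_pow, Polynomial.map_X,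
      Polynomial.map_one, Polynomial.map_sum, Polynomial.map_C, map_mul, map_pow, hπc, zero_pow,
      Nat.succ_ne_zero, ne_eq, not_false_eq_true, mul_zero, zero_mul, map_zero, Finset.sum_const_zero,
      add_zero]
  have h0 : H.eval (-1) ∈ IsLocalRing.maximalIdeal R := by
    rw [← Ideal.Quotient.eq_zero_iff_mem]
    show π (H.eval (-1)) = 0
    rw [← Polynomial.eval₂_at_apply, ← Polynomial.eval_map, hmap]
    simp
  have h1 : IsUnit (H.derivative.eval (-1)) := by
    rw [← IsLocalRing.notMem_maximalIdeal, ← Ideal.Quotient.eq_zero_iff_mem]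
    show ¬ π (H.derivative.eval (-1)) = 0
    rw [← Polynomial.eval₂_at_apply, ← Polynomial.eval_map, ← Polynomial.derivative_map, hmap]
    simp [Polynomial.derivative_mul]
  obtain ⟨v, hv, hv1⟩ := HenselianLocalRing.is_henselian H hH (-1) h0 h1
  have hvu : IsUnit v := by
    rw [← IsLocalRing.notMem_maximalIdeal]
    intro hm
    have := (IsLocalRing.maximalIdeal R).sub_mem hv1 hm
    simp at this
  obtain ⟨w, hw⟩ := hvu.exists_right_inv
  refine ⟨w, (hvu.pow (n + 2)).mul_left_eq_zero.1 ?_⟩
  have hev : f.eval (α + d * (c * w)) = t.eval (d * (c * w)) := by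
    rw [Polynomial.taylor_eval, add_comm]
  rw [hev, Polynomial.eval_eq_sum_range' hn, Finset.sum_range_succ', Finset.sum_range_succ',
    Polynomial.taylor_coeff_zero, zero_add, Polynomial.taylor_coeff_one, h]
  rw [Polynomial.IsRoot, Polynomial.eval_add, Polynomial.eval_mul, Polynomial.eval_add,
    Polynomial.eval_pow, Polynomial.eval_X, Polynomial.eval_one, Polynomial.eval_finset_sum] at hv
  simp only [Polynomial.eval_mul, Polynomial.eval_C, Polynomial.eval_pow, Polynomial.eval_X] at hv
  have hsum : (∑ j ∈ Finset.range (n + 1), t.coeff (j + 1 + 1) * (d * (c * w)) ^ (j + 1 + 1)) *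
      v ^ (n + 2) = d ^ 2 * c *
        ∑ j ∈ Finset.range (n + 1), t.coeff (j + 2) * d ^ j * c ^ (j + 1) * v ^ (n - j) := by
    rw [Finset.sum_mul, Finset.mul_sum]
    refine Finset.sum_congr rfl fun j hj => ?_
    have hj' : j ≤ n := Nat.le_of_lt_succ (Finset.mem_range.1 hj)
    have e : n + 2 = (j + 2) + (n - j) := by omega
    have hwv : w ^ (j + 2) * v ^ (j + 2) = 1 := by rw [← mul_pow, mul_comm, hw, one_pow]
    rw [e, pow_add v (j + 2) (n - j)]
    linear_combination (t.coeff (j + 2) * d ^ (j + 2) * c ^ (j + 2) * v ^ (n - j)) * hwv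
  rw [add_mul, add_mul, hsum]
  linear_combination (d ^ 2 * c) * hv + (d ^ 2 * c * v ^ (n + 1)) * hw

/-- The generic ring of a henselian semi-valuation ring is henselian. -/
theorem henselian_away {R : Type u} [CommRing R] [HenselianLocalRing R] {a : R}
    (ha : a ∈ nonZeroDivisors R) (hsv : SemiVal R a) (L : Type u) [CommRing L] [Algebra R L]
    [IsLocalization.Away a L] : HenselianLocalRing L := by
  have := isLocalRing_away ha hsv L
  have hpr : (prime ha hsv).IsPrime := isPrime_prime ha hsv
  have hq : ∀ x, x ∉ prime ha hsv ↔ ∃ n : ℕ, x ∣ a ^ n := fun x => not_not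
  generalize prime ha hsv = 𝔮 at hpr hq
  let V := R ⧸ 𝔮
  have : ValuationRing V := valuationRing_quotient hsv 𝔮 hq
  let K := FractionRing V
  have hK : IsUnit (algebraMap R K a) := by
    rw [isUnit_iff_ne_zero, IsScalarTower.algebraMap_apply R V K, ne_eq,
      map_eq_zero_iff _ (IsFractionRing.injective V K), Ideal.Quotient.algebraMap_eq,
      Ideal.Quotient.eq_zero_iff_mem]
    exact (hq a).2 ⟨1, by rw [pow_one]⟩
  let φ : L →+* K := IsLocalization.Away.lift a hK
  have hφ : ∀ x : R, φ (algebraMap R L x) = algebraMap V K (Ideal.Quotient.mk 𝔮 x) := fun x =>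
    (IsLocalization.Away.lift_eq a hK x).trans (IsScalarTower.algebraMap_apply R V K x)
  have hker : ∀ l : L, φ l = 0 ↔ l ∈ IsLocalRing.maximalIdeal L := by
    intro l
    refine ⟨fun h => fun hu => (hu.map φ).ne_zero h, fun hl => ?_⟩
    obtain ⟨⟨x, ⟨_, i, rfl⟩⟩, hx⟩ := IsLocalization.surj (Submonoid.powers a) l
    simp only at hx
    have hxq : x ∈ 𝔮 := by
      by_contra hh
      have h1 := (isUnit_algebraMap_iff L x).2 ((hq x).1 hh)
      rw [← hx] at h1
      exact hl (isUnit_of_mul_isUnit_left h1)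
    have h0 := congrArg φ hx
    rw [map_mul, hφ x, Ideal.Quotient.eq_zero_iff_mem.2 hxq, map_zero] at h0
    exact (mul_eq_zero.1 h0).resolve_right
      ((IsLocalization.map_units L (⟨a ^ i, i, rfl⟩ : Submonoid.powers a)).map φ).ne_zero
  constructor
  intro f hf a₀ h0 h1
  classical
  obtain ⟨s, hs⟩ := IsLocalization.exist_integer_multiples (Submonoid.powers a)
    (Finset.range f.natDegree) f.coeff
  set σ : L := algebraMap R L (s : R)
  have hσ : IsUnit σ := IsLocalization.map_units L s
  have hlifts : f.scaleRoots σ ∈ Polynomial.lifts (algebraMap R L) := by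
    rw [Polynomial.lifts_iff_coeff_lifts]
    intro i
    rw [Polynomial.coeff_scaleRoots]
    rcases lt_trichotomy i f.natDegree with hi | hi | hi
    · obtain ⟨b, hb⟩ := hs i (Finset.mem_range.2 hi)
      refine ⟨b * (s : R) ^ (f.natDegree - i - 1), ?_⟩
      rw [map_mul, map_pow, hb, Algebra.smul_def]
      conv_rhs => rw [show f.natDegree - i = (f.natDegree - i - 1) + 1 by omega, pow_succ]
      ring
    · exact ⟨1, by rw [map_one, hi, hf.coeff_natDegree, Nat.sub_self, pow_zero, one_mul]⟩
    · exact ⟨0, by rw [map_zero, Polynomial.coeff_eq_zero_of_natDegree_lt hi, zero_mul]⟩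
  obtain ⟨F, hF, -, hFm⟩ := Polynomial.lifts_and_degree_eq_and_monic hlifts
    ((Polynomial.monic_scaleRoots_iff σ).2 hf)
  have hcomp : (F.map (algebraMap R L)).comp (Polynomial.C σ * Polynomial.X) =
      Polynomial.C (σ ^ f.natDegree) * f := by
    rw [hF, Polynomial.C_pow, Polynomial.comp, Polynomial.scaleRoots_eval₂_mul,
      Polynomial.eval₂_C_X]
  have he : ∀ y : L, (F.map (algebraMap R L)).eval (σ * y) = σ ^ f.natDegree * f.eval y := fun y => by
    have := congrArg (Polynomial.eval y) hcomp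
    simpa only [Polynomial.eval_comp, Polynomial.eval_mul, Polynomial.eval_C, Polynomial.eval_X]
      using this
  have hd : σ * (F.map (algebraMap R L)).derivative.eval (σ * a₀) =
      σ ^ f.natDegree * f.derivative.eval a₀ := by
    have := congrArg (fun q => Polynomial.eval a₀ (Polynomial.derivative q)) hcomp
    simpa only [Polynomial.derivative_comp, Polynomial.derivative_C_mul, Polynomial.derivative_X,
      mul_one, Polynomial.eval_mul, Polynomial.eval_C, Polynomial.eval_comp, Polynomial.eval_X]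
      using this
  set b := φ (σ * a₀)
  have hφe : ∀ G : R[X], φ ((G.map (algebraMap R L)).eval (σ * a₀)) =
      Polynomial.eval₂ ((algebraMap V K).comp (Ideal.Quotient.mk 𝔮)) b G := fun G => by
    rw [Polynomial.eval_map, Polynomial.hom_eval₂]
    congr 1
    exact RingHom.ext hφ
  have hroot : Polynomial.eval₂ ((algebraMap V K).comp (Ideal.Quotient.mk 𝔮)) b F = 0 := by
    rw [← hφe, he, map_mul, (hker _).2 h0, mul_zero]
  obtain ⟨β, hβ⟩ := (IsIntegrallyClosed.isIntegral_iff (R := V) (K := K)).1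
    ⟨F.map (Ideal.Quotient.mk 𝔮), hFm.map _, by rw [Polynomial.eval₂_map]; exact hroot⟩
  obtain ⟨α, rfl⟩ := Ideal.Quotient.mk_surjective β
  have hev : ∀ G : R[X], φ ((G.map (algebraMap R L)).eval (σ * a₀)) =
      algebraMap V K (Ideal.Quotient.mk 𝔮 (G.eval α)) := fun G => by
    rw [hφe, ← hβ]
    exact Polynomial.eval₂_at_apply (p := G) ((algebraMap V K).comp (Ideal.Quotient.mk 𝔮)) α
  have hF0 : F.eval α ∈ 𝔮 := by
    rw [← Ideal.Quotient.eq_zero_iff_mem, ← map_eq_zero_iff _ (IsFractionRing.injective V K), ← hev,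
      he, map_mul, (hker _).2 h0, mul_zero]
  have hF1 : F.derivative.eval α ∉ 𝔮 := by
    rw [← Ideal.Quotient.eq_zero_iff_mem, ← map_eq_zero_iff _ (IsFractionRing.injective V K), ← hev,
      ← Polynomial.derivative_map, hker]
    have h2 : IsUnit (σ * (F.map (algebraMap R L)).derivative.eval (σ * a₀)) := by
      rw [hd]
      exact (hσ.pow _).mul h1
    exact fun hm => hm (isUnit_of_mul_isUnit_right h2)
  have hd2 : F.derivative.eval α ^ 2 ∉ 𝔮 := fun hm => hF1 (hpr.mem_of_pow_mem 2 hm)
  obtain ⟨c, hc⟩ := (hsv _ (F.eval α) ((hq _).1 hd2)).resolve_right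
    fun hdv => (hq _).2 (let ⟨k, hk⟩ := (hq _).1 hd2; ⟨k, hdv.trans hk⟩) hF0
  have hcq : c ∈ 𝔮 := (hpr.mem_or_mem (hc ▸ hF0)).resolve_left hd2
  obtain ⟨z, hz⟩ := exists_root_newton F α c
    (IsLocalRing.le_maximalIdeal hpr.ne_top hcq) hc
  obtain ⟨T, hT⟩ := hσ.exists_right_inv
  set x := α + F.derivative.eval α * (c * z)
  refine ⟨algebraMap R L x * T, ?_, ?_⟩
  · have h2 := he (algebraMap R L x * T)
    rw [show σ * (algebraMap R L x * T) = algebraMap R L x by rw [mul_left_comm, hT, mul_one],
      Polynomial.eval_map, Polynomial.eval₂_at_apply, hz, map_zero] at h2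
    exact (hσ.pow _).mul_right_eq_zero.1 h2.symm
  · rw [← hker, map_sub, map_mul, hφ, map_add, map_add, hβ,
      Ideal.Quotient.eq_zero_iff_mem.2 (𝔮.mul_mem_left _ (𝔮.mul_mem_right _ hcq)), map_zero,
      add_zero]
    show φ (σ * a₀) * φ T - φ a₀ = 0
    rw [← map_mul, mul_right_comm, hT, one_mul, sub_self]

end Groth.Agent.ModPairLib.SemiVal.Hensel
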