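import Groth.Agent.ModPairLib.SemiVal.Pair
import Groth.Agent.ModPairLib.SemiVal.Hensel
import Groth.Agent.ProEtW.StrictlyHenselian
import Groth.Agent.Hensel.Local
import Groth.Agent.WEtale.Local
import Groth.Agent.S14620
import Groth.Prelude.Def_EtBase

/-!
# Modulus pairs which are local for etale coverings
-/

set_option autoImplicit false

universe u

open CategoryTheory CategoryTheory.Limits AlgebraicGeometry TopologicalSpace
open scoped TensorProduct
open Groth.Agent.IdealSh
open ModPair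

namespace Groth.Agent.ModPairLib.SemiVal.Etale

open Ring Pair

/-- An etale algebra over a strictly henselian ring with nonempty closed fibre has a retraction. -/
lemma exists_retraction {A : Type u} [CommRing A] (hA : EtCoh.IsStrictlyHenselianLocalRing A)
    (B : Type u) [CommRing B] [Algebra A B] [Algebra.Etale A B]
    (q : PrimeSpectrum B) (hq : ∀ x : A, ¬ IsUnit x → algebraMap A B x ∈ q.asIdeal) :
    Nonempty (B →ₐ[A] A) := by
  obtain ⟨hh, hsep⟩ := hA
  let k := IsLocalRing.ResidueField A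
  let C := k ⊗[A] B
  have hker : ∀ x : A, x ∈ IsLocalRing.maximalIdeal A → Ideal.Quotient.mk q.asIdeal (algebraMap A B x) = 0 :=
    fun x hx => Ideal.Quotient.eq_zero_iff_mem.2 (hq x hx)
  let τ₀ : k →ₐ[A] B ⧸ q.asIdeal := Ideal.Quotient.liftₐ _ (Algebra.ofId A _) hker
  let τ : C →ₐ[A] B ⧸ q.asIdeal :=
    Algebra.TensorProduct.lift τ₀ (Ideal.Quotient.mkₐ A q.asIdeal) fun _ _ => .all _ _
  have hnt : Nontrivial C := τ.toRingHom.domain_nontrivial
  obtain ⟨Q, hQ⟩ := Ideal.exists_maximal C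
  have := hQ
  let F := C ⧸ Q
  letI : Field F := Ideal.Quotient.field Q
  have : Algebra.FormallyUnramified C F :=
    Algebra.FormallyUnramified.of_surjective (Algebra.ofId C F) Ideal.Quotient.mk_surjective
  have : Algebra.FormallyUnramified k F := Algebra.FormallyUnramified.comp k C F
  have : Algebra.EssFiniteType k F := Algebra.EssFiniteType.comp k C F
  have hFsep : Algebra.IsSeparable k F := Algebra.FormallyUnramified.isSeparable k F
  have hsurj : Function.Surjective (algebraMap k F) := IsSepClosed.algebraMap_surjective k F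
  let e : k ≃ₐ[k] F := AlgEquiv.ofBijective (Algebra.ofId k F) ⟨(algebraMap k F).injective, hsurj⟩
  let σ : B →ₐ[A] k :=
    (e.symm.toAlgHom.restrictScalars A).comp
      (((Ideal.Quotient.mkₐ k Q).restrictScalars A).comp Algebra.TensorProduct.includeRight)
  obtain ⟨f, -, -⟩ := Groth.Agent.Hensel.existsUnique_algHom_residue B σ
  exact ⟨f⟩

/-- Morphisms from the spectrum of a strictly henselian ring lift along etale coverings. -/
theorem exists_lift_etale {T X : Scheme.{u}} [IsAffine T]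
    (hA : EtCoh.IsStrictlyHenselianLocalRing Γ(T, ⊤)) {ι : Type*} {Y : ι → Scheme.{u}}
    (w : ∀ i, Y i ⟶ X) (hw : ∀ i, Etale (w i)) (hs : ∀ x, ∃ i, x ∈ Set.range (w i)) (g : T ⟶ X) :
    ∃ (i : ι) (h : T ⟶ Y i), h ≫ w i = g := by
  obtain ⟨hh, -⟩ := id hA
  let m : Spec Γ(T, ⊤) := IsLocalRing.closedPoint Γ(T, ⊤)
  obtain ⟨i, y, hy⟩ := hs (g (T.isoSpec.inv m))
  have := hw i
  let g' := T.isoSpec.inv ≫ g
  obtain ⟨z, hz, -⟩ := Scheme.Pullback.exists_preimage_pullback (f := g') (g := w i) m y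
    (by rw [hy, Scheme.Hom.comp_apply])
  obtain ⟨V, hzV, -⟩ := Comap.exists_affine_le z ⊤ trivial
  have : IsAffine (V.1 : Scheme.{u}) := V.2
  let e := (V.1 : Scheme.{u}).isoSpec
  let p := V.1.ι ≫ pullback.fst g' (w i)
  have hp : Etale p := inferInstance
  obtain ⟨φ, hφ⟩ : ∃ φ : Γ(T, ⊤) ⟶ Γ((V.1 : Scheme.{u}), ⊤), Spec.map φ = e.inv ≫ p :=
    ⟨Spec.preimage (e.inv ≫ p), Spec.map_preimage _⟩
  have het : φ.hom.Etale := by
    have h1 : AlgebraicGeometry.Etale (Spec.map φ) := by rw [hφ]; infer_instance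
    rwa [HasRingHomProperty.Spec_iff (P := @AlgebraicGeometry.Etale)] at h1
  algebraize [φ.hom]
  have hcomap : Spec.map φ (e.hom ⟨z, hzV⟩) = m := by
    rw [hφ, ← Scheme.Hom.comp_apply, Iso.hom_inv_id_assoc]
    exact hz
  obtain ⟨r⟩ := exists_retraction hA Γ((V.1 : Scheme.{u}), ⊤) (e.hom ⟨z, hzV⟩) (fun x hx => by
    have h1 : (e.hom ⟨z, hzV⟩).asIdeal.comap φ.hom = IsLocalRing.maximalIdeal Γ(T, ⊤) :=
      congrArg PrimeSpectrum.asIdeal hcomap
    exact h1.ge hx)
  refine ⟨i, T.isoSpec.hom ≫ Spec.map (CommRingCat.ofHom r.toRingHom) ≫ e.inv ≫ V.1.ι ≫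
    pullback.snd g' (w i), ?_⟩
  simp only [Category.assoc]
  rw [← pullback.condition]
  have h2 : Spec.map (CommRingCat.ofHom r.toRingHom) ≫ e.inv ≫ p = 𝟙 _ := by
    rw [← hφ, ← Spec.map_comp, ← Spec.map_id]
    congr 1
    ext x
    exact r.commutes x
  simp only [p, g', Category.assoc] at h2 ⊢
  rw [reassoc_of% h2, Iso.hom_inv_id_assoc]

lemma hasEtaleRetractions (P : ModPair.Pair.{u}) [IsAffine P.total]
    (hE : ∀ (ι : Type u) (U : ι → ModPair.Pair.{u}) (v : ∀ i, U i ⟶ P),
      (∀ i, ModPair.IsMinimal (U i).mod P.mod (v i).hom ∧ AlgebraicGeometry.Etale (v i).hom ∧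
        QuasiCompact (v i).hom ∧ QuasiSeparated (v i).hom) →
      (∀ x : P.total, ∃ (i : ι) (y : (U i).total), (v i).hom.base y = x) →
      ∃ (i : ι) (h : P ⟶ U i), h ≫ v i = 𝟙 P) :
    ProEtW.HasEtaleRetractions Γ(P.total, ⊤) := by
  intro B _ _ hff het
  let q : Spec (CommRingCat.of B) ⟶ P.total :=
    Spec.map (CommRingCat.ofHom (algebraMap Γ(P.total, ⊤) B)) ≫ P.total.isoSpec.inv
  have h1 : AlgebraicGeometry.Etale (Spec.map (CommRingCat.ofHom (algebraMap Γ(P.total, ⊤) B))) :=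
    (HasRingHomProperty.Spec_iff (P := @AlgebraicGeometry.Etale)).2 (RingHom.etale_algebraMap.2 het)
  have hq : AlgebraicGeometry.Etale q := inferInstance
  have hsurj : ∀ x : P.total, ∃ y, q y = x := fun x => by
    obtain ⟨y, hy⟩ := PrimeSpectrum.comap_surjective_of_faithfullyFlat (A := Γ(P.total, ⊤)) (B := B)
      (P.total.isoSpec.hom x)
    refine ⟨y, ?_⟩
    show P.total.isoSpec.inv (Spec.map (CommRingCat.ofHom (algebraMap Γ(P.total, ⊤) B)) y) = x
    rw [show Spec.map (CommRingCat.ofHom (algebraMap Γ(P.total, ⊤) B)) y = P.total.isoSpec.hom x from hy,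
      ← Scheme.Hom.comp_apply, Iso.hom_inv_id]
    rfl
  obtain ⟨-, h, e⟩ := hE PUnit (fun _ => ⟨_, P.mod.comap q, EffCartier.comap_of_flat q P.isEffCartier⟩)
    (fun _ => ⟨q, le_refl _⟩) (fun _ => ⟨rfl, hq, inferInstance, inferInstance⟩)
    (fun x => let ⟨y, hy⟩ := hsurj x; ⟨PUnit.unit, y, hy⟩)
  have e' : h.hom ≫ q = 𝟙 P.total := congrArg ModPair.Pair.Hom.hom e
  let ψ : CommRingCat.of B ⟶ Γ(P.total, ⊤) := Spec.preimage (P.total.isoSpec.inv ≫ h.hom)
  have hψ : CommRingCat.ofHom (algebraMap Γ(P.total, ⊤) B) ≫ ψ = 𝟙 _ := by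
    apply Spec.map_injective
    rw [Spec.map_comp, Spec.map_id]
    erw [Spec.map_preimage]
    rw [← cancel_mono P.total.isoSpec.inv]
    simp only [Category.assoc, Category.id_comp]
    exact (congrArg (P.total.isoSpec.inv ≫ ·) e').trans (Category.comp_id _)
  exact ⟨⟨ψ.hom, fun x => congrArg (fun f => f.hom x) hψ⟩⟩

lemma strictlyHenselian_of_local (P : ModPair.Pair.{u}) [IsAffine P.total]
    [IsLocalRing Γ(P.total, ⊤)] (hR : ProEtW.HasEtaleRetractions Γ(P.total, ⊤)) :
    EtCoh.IsStrictlyHenselianLocalRing Γ(P.total, ⊤) := by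
  let m := IsLocalRing.maximalIdeal Γ(P.total, ⊤)
  have h : EtCoh.IsStrictlyHenselianLocalRing (Localization.AtPrime m) :=
    ⟨Groth.Agent.ProEtW.StrictlyHenselian.henselian hR m,
      Groth.Agent.ProEtW.StrictlyHenselian.isSepClosed hR m⟩
  refine Groth.Agent.WEtale.Local.strictlyHenselian_of_ringEquiv
    (IsLocalization.atUnits Γ(P.total, ⊤) m.primeCompl (S := Localization.AtPrime m) ?_).toRingEquiv.symm h
  exact fun x hx => IsLocalRing.notMem_maximalIdeal.1 hx

lemma strictlyHenselian_quotient {A : Type u} [CommRing A]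
    (hA : EtCoh.IsStrictlyHenselianLocalRing A) (q : Ideal A) [q.IsPrime] :
    EtCoh.IsStrictlyHenselianLocalRing (A ⧸ q) := by
  obtain ⟨hh, -⟩ := id hA
  have : IsLocalRing (A ⧸ q) := .of_surjective' _ Ideal.Quotient.mk_surjective
  have : IsLocalHom (Ideal.Quotient.mk q) := .of_surjective _ Ideal.Quotient.mk_surjective
  exact Groth.Agent.S14620.result _ (RingHom.Finite.of_surjective _ Ideal.Quotient.mk_surjective) hA

lemma henselian_interior {P : ModPair.Pair.{u}} [IsAffine P.total]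
    (hA : EtCoh.IsStrictlyHenselianLocalRing Γ(P.total, ⊤)) {a : Γ(P.total, ⊤)}
    (ha : a ∈ nonZeroDivisors Γ(P.total, ⊤))
    (hint : ModPair.interior P.mod = P.total.basicOpen a) (hsv : SemiVal Γ(P.total, ⊤) a) :
    HenselianLocalRing Γ((ModPair.interior P.mod : Scheme.{u}), ⊤) := by
  obtain ⟨hh, -⟩ := hA
  let L := Localization.Away a
  have hL : HenselianLocalRing L := Hensel.henselian_away ha hsv L
  rw [hint]
  have := (isAffineOpen_top P.total).isLocalization_basicOpen a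
  let e : L ≃+* Γ((P.total.basicOpen a : Scheme.{u}), ⊤) :=
    (IsLocalization.algEquiv (Submonoid.powers a) L Γ(P.total, P.total.basicOpen a)).toRingEquiv.trans
      (P.total.basicOpen a).topIso.commRingCatIsoToRingEquiv.symm
  have : IsLocalRing Γ((P.total.basicOpen a : Scheme.{u}), ⊤) := e.isLocalRing
  constructor
  intro f hf a₀ h0 h1
  have hm : ∀ y, e.symm y ∈ IsLocalRing.maximalIdeal L ↔
      y ∈ IsLocalRing.maximalIdeal Γ((P.total.basicOpen a : Scheme.{u}), ⊤) := fun y => by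
    simp only [IsLocalRing.mem_maximalIdeal, mem_nonunits_iff, isUnit_map_iff]
  have hev : ∀ (G : Polynomial Γ((P.total.basicOpen a : Scheme.{u}), ⊤)) y,
      (G.map e.symm.toRingHom).eval (e.symm y) = e.symm (G.eval y) := fun G y => by
    rw [Polynomial.eval_map]
    exact Polynomial.eval₂_at_apply e.symm.toRingHom y
  obtain ⟨b, hb0, hb1⟩ := HenselianLocalRing.is_henselian (f.map e.symm.toRingHom) (hf.map _)
    (e.symm a₀) (by rw [hev, hm]; exact h0)
    (by rw [Polynomial.derivative_map, hev]; exact h1.map e.symm)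
  refine ⟨e b, ?_, ?_⟩
  · rw [Polynomial.IsRoot, ← map_eq_zero_iff e.symm e.symm.injective, ← hev, e.symm_apply_apply]
    exact hb0
  · rw [← hm, map_sub, e.symm_apply_apply]
    exact hb1

end Groth.Agent.ModPairLib.SemiVal.Etale
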