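import Groth.Agent.ModPairLib.SemiVal.Pair
import Groth.Agent.ModPairLib.SemiVal.AIC

/-!
# Modulus pairs which are local for finite coverings
-/

set_option autoImplicit false

universe u

open CategoryTheory CategoryTheory.Limits AlgebraicGeometry TopologicalSpace
open Groth.Agent.IdealSh
open ModPair

namespace Groth.Agent.ModPairLib.SemiVal.Finite

open Ring Pair AIC

/-- An affine scheme which lifts along finite coverings has a domain of sections which is
absolutely integrally closed. -/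
lemma domain_aic_of_lift (T : Scheme.{u}) [IsAffine T] [Nontrivial Γ(T, ⊤)]
    (h1 : ∃ (p : minimalPrimes Γ(T, ⊤)) (h : T ⟶ _), h ≫ clI T p.1 = 𝟙 T)
    (h2 : ∀ F : Polynomial Γ(T, ⊤), F.Monic → 0 < F.natDegree →
      ∃ h : T ⟶ _, h ≫ rootCover T F = 𝟙 T) :
    IsDomain Γ(T, ⊤) ∧ Curves.IsAIC Γ(T, ⊤) := by
  obtain ⟨p, h, e⟩ := h1
  have hp : p.1 = ⊥ := eq_bot_of_clI T p.1 h e
  have hpr : (⊥ : Ideal Γ(T, ⊤)).IsPrime := hp ▸ Ideal.minimalPrimes_isPrime p.2
  refine ⟨IsDomain.of_bot_isPrime _, fun F hF hd => ?_⟩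
  obtain ⟨h, e⟩ := h2 F hF hd
  exact exists_root_of_rootCover T F h e

/-- The pullback of the modulus to a component is effective Cartier. -/
lemma isEffCartierIdeal_comap_clI (P : ModPair.Pair.{u}) [IsAffine P.total]
    {a : Γ(P.total, ⊤)} (ha : a ∈ nonZeroDivisors Γ(P.total, ⊤))
    (he : P.mod.ideal ⟨⊤, isAffineOpen_top _⟩ = Ideal.span {a})
    (p : minimalPrimes Γ(P.total, ⊤)) :
    BlowUp.IsEffCartierIdeal (P.mod.comap (clI P.total p.1)) := by
  have hp : p.1.IsPrime := Ideal.minimalPrimes_isPrime p.2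
  intro z
  refine ⟨⟨⊤, isAffineOpen_top _⟩, trivial, _, ?_,
    Comap.ideal_comap_span_singleton P.mod (clI P.total p.1) ⟨⊤, isAffineOpen_top _⟩
      ⟨⊤, isAffineOpen_top _⟩ (le_of_eq (Scheme.Hom.preimage_top _).symm) he⟩
  set d := ((clI P.total p.1).appLE ⊤ ⊤ (le_of_eq (Scheme.Hom.preimage_top _).symm)).hom a
  have hd : d ≠ 0 := by
    intro h0
    let η : Spec (CommRingCat.of (Γ(P.total, ⊤) ⧸ p.1)) :=
      (⟨⊥, Ideal.isPrime_bot⟩ : PrimeSpectrum (Γ(P.total, ⊤) ⧸ p.1))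
    have hη : η ∉ (Spec (CommRingCat.of (Γ(P.total, ⊤) ⧸ p.1))).basicOpen d := by
      rw [h0, Scheme.basicOpen_zero]
      exact fun h => h
    rw [Scheme.basicOpen_appLE] at hη
    apply hη
    refine ⟨trivial, ?_⟩
    show clI P.total p.1 η ∈ P.total.basicOpen a
    rw [← P.total.toSpecΓ_preimage_basicOpen]
    show a ∉ (P.total.toSpecΓ (clI P.total p.1 η)).asIdeal
    have : P.total.toSpecΓ (clI P.total p.1 η) =
        Spec.map (CommRingCat.ofHom (Ideal.Quotient.mk p.1)) η := by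
      show P.total.isoSpec.hom (clI P.total p.1 η) = _
      rw [← Scheme.Hom.comp_apply, clI, Category.assoc, Iso.inv_hom_id, Category.comp_id]
    rw [this]
    intro hm
    have hm' : Ideal.Quotient.mk p.1 a = 0 := hm
    rw [Ideal.Quotient.eq_zero_iff_mem] at hm'
    exact Set.disjoint_left.1 (Ideal.disjoint_nonZeroDivisors_of_mem_minimalPrimes p.2) hm' ha
  have : IsDomain Γ(Spec (CommRingCat.of (Γ(P.total, ⊤) ⧸ p.1)), ⊤) :=
    (Scheme.ΓSpecIso (CommRingCat.of (Γ(P.total, ⊤) ⧸ p.1))).commRingCatIsoToRingEquiv.isDomain_iff.2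
      (inferInstanceAs (IsDomain (Γ(P.total, ⊤) ⧸ p.1)))
  exact mem_nonZeroDivisors_of_ne_zero hd

lemma domain_aic_of_pair (P : ModPair.Pair.{u}) [IsAffine P.total] [IsLocalRing Γ(P.total, ⊤)]
    (hF : ∀ (ι : Type u) (U : ι → ModPair.Pair.{u}) (v : ∀ i, U i ⟶ P),
      (∀ i, ModPair.IsMinimal (U i).mod P.mod (v i).hom ∧ IsFinite (v i).hom) →
      (∀ x : P.total, ∃ (i : ι) (y : (U i).total), (v i).hom.base y = x) →
      ∃ (i : ι) (h : P ⟶ U i), h ≫ v i = 𝟙 P) :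
    IsDomain Γ(P.total, ⊤) ∧ Curves.IsAIC Γ(P.total, ⊤) := by
  obtain ⟨a, ha, he, -⟩ := exists_equation P
  refine domain_aic_of_lift P.total ?_ fun F hFm hd => ?_
  · obtain ⟨i, h, e⟩ := hF (minimalPrimes Γ(P.total, ⊤))
      (fun p => ⟨_, P.mod.comap (clI P.total p.1), isEffCartierIdeal_comap_clI P ha he p⟩)
      (fun p => ⟨clI P.total p.1, le_refl _⟩) (fun p => ⟨rfl, inferInstance⟩)
      (fun x => let ⟨p, y, hy⟩ := exists_mem_range_clI P.total x; ⟨p, y, hy⟩)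
    exact ⟨i, h.hom, congrArg ModPair.Pair.Hom.hom e⟩
  · obtain ⟨h1, h2, h3⟩ := rootCover_props P.total F hFm hd
    obtain ⟨-, h, e⟩ := hF PUnit
      (fun _ => ⟨_, P.mod.comap (rootCover P.total F), EffCartier.comap_of_flat _ P.isEffCartier⟩)
      (fun _ => ⟨rootCover P.total F, le_refl _⟩) (fun _ => ⟨rfl, h1⟩)
      (fun x => let ⟨y, hy⟩ := h3 x; ⟨PUnit.unit, y, hy⟩)
    exact ⟨h.hom, congrArg ModPair.Pair.Hom.hom e⟩

lemma finLocal_of_aic {P X : ModPair.Pair.{u}} [IsAffine P.total] [IsDomain Γ(P.total, ⊤)]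
    (hA : Curves.IsAIC Γ(P.total, ⊤)) {ι : Type u} {U : ι → ModPair.Pair.{u}} (v : ∀ i, U i ⟶ X)
    (hv : ∀ i, ModPair.IsMinimal (U i).mod X.mod (v i).hom ∧ IsFinite (v i).hom)
    (hs : ∀ x : X.total, ∃ (i : ι) (y : (U i).total), (v i).hom.base y = x) (g : P ⟶ X) :
    ∃ (i : ι) (h : P ⟶ U i), h ≫ v i = g := by
  obtain ⟨i, h, e⟩ := exists_lift_finite hA (fun i => (v i).hom) (fun i => (hv i).2)
    (fun x => let ⟨i, y, hy⟩ := hs x; ⟨i, y, hy⟩) g.hom
  exact ⟨i, exists_hom_of_minimal (hv i).1 g h e⟩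

lemma interior_domain_aic (P : ModPair.Pair.{u}) [IsAffine P.total] [IsDomain Γ(P.total, ⊤)]
    (hA : Curves.IsAIC Γ(P.total, ⊤)) {a : Γ(P.total, ⊤)}
    (ha : a ∈ nonZeroDivisors Γ(P.total, ⊤))
    (hint : ModPair.interior P.mod = P.total.basicOpen a) :
    IsDomain Γ((ModPair.interior P.mod : Scheme.{u}), ⊤) ∧
      Curves.IsAIC Γ((ModPair.interior P.mod : Scheme.{u}), ⊤) := by
  rw [hint]
  have := (isAffineOpen_top P.total).isLocalization_basicOpen a
  have h1 : IsDomain Γ(P.total, P.total.basicOpen a) :=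
    IsLocalization.isDomain_of_le_nonZeroDivisors (M := Submonoid.powers a) _
      (Submonoid.powers_le.2 ha)
  have h2 := isAIC_localization hA (Submonoid.powers a) Γ(P.total, P.total.basicOpen a)
  let e := (P.total.basicOpen a).topIso.commRingCatIsoToRingEquiv
  exact ⟨e.isDomain_iff.2 h1, isAIC_of_surjective h2 e.symm.toRingHom e.symm.surjective⟩

end Groth.Agent.ModPairLib.SemiVal.Finite
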