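import Groth.Agent.S18734
import Mathlib

/-!
# Fibres of algebras without torsion over semi-valuation rings
-/

set_option autoImplicit false

universe u

open scoped TensorProduct

namespace Groth.Agent.ModPairLib.SemiVal.FiniteFibres

variable {A V B : Type u} [CommRing A] [CommRing V] [IsDomain V] [ValuationRing V] [CommRing B]
  [Algebra A B]

omit [ValuationRing V] in
lemma pow_dvd (π : A →+* V) (f : A) (hf : π f ≠ 0) (hdiv : ∀ x, π x = 0 → f ∣ x) :
    ∀ (n : ℕ) (x : A), π x = 0 → f ^ n ∣ x := by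
  intro n
  induction n with
  | zero => exact fun x _ => (pow_zero f).symm ▸ one_dvd x
  | succ n ih =>
    intro x hx
    obtain ⟨y, rfl⟩ := hdiv x hx
    rw [map_mul] at hx
    rw [pow_succ']
    exact mul_dvd_mul_left f (ih y ((mul_eq_zero.1 hx).resolve_left hf))

omit [ValuationRing V] in
/-- Every prime containing `f` contains a prime over `ker π`, when `f` is a nonzerodivisor. -/
lemma exists_prime_over_ker (π : A →+* V) (f : A) (hf : π f ≠ 0)
    (hdiv : ∀ x, π x = 0 → f ∣ x) (hgenV : ∀ r, π r ≠ 0 → ∃ (n : ℕ) (y : A), π r * π y = π f ^ n)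
    (hfB : algebraMap A B f ∈ nonZeroDivisors B) (z : Ideal B) [hzp : z.IsPrime]
    (hz : algebraMap A B f ∈ z) :
    ∃ g : Ideal B, g.IsPrime ∧ g ≤ z ∧ g.comap (algebraMap A B) = RingHom.ker π := by
  set J := (RingHom.ker π).map (algebraMap A B)
  have hK : ∀ n, ∀ y ∈ J, algebraMap A B f ^ n ∣ y := by
    intro n
    have hle : J ≤ Ideal.span {algebraMap A B f ^ n} := by
      rw [Ideal.map_le_iff_le_comap]
      intro y hy
      rw [Ideal.mem_comap, Ideal.mem_span_singleton, ← map_pow]
      exact map_dvd _ (pow_dvd π f hf hdiv n y hy)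
    exact fun y hy => Ideal.mem_span_singleton.1 (hle hy)
  let T : Submonoid B := z.primeCompl ⊔ Submonoid.powers (algebraMap A B f)
  have hdisj : Disjoint (J : Set B) (T : Set B) := by
    rw [Set.disjoint_left]
    intro y hy hyT
    obtain ⟨s, hs, _, ⟨n, rfl⟩, rfl⟩ := Submonoid.mem_sup.1 hyT
    obtain ⟨c, hc⟩ := hK (n + 1) _ hy
    simp only at hc
    have h1 : (s - algebraMap A B f * c) * algebraMap A B f ^ n = 0 := by
      linear_combination hc
    have h2 := sub_eq_zero.1 ((mem_nonZeroDivisors_iff_right.1 (pow_mem hfB n)) _ h1)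
    exact hs (h2 ▸ z.mul_mem_right c hz)
  obtain ⟨g, hg, hJg, hgT⟩ := Ideal.exists_le_prime_disjoint J T hdisj
  have hgz : g ≤ z := fun y hy => by
    by_contra hne
    exact Set.disjoint_left.1 hgT hy (Submonoid.mem_sup_left (show y ∈ z.primeCompl from hne))
  refine ⟨g, hg, hgz, le_antisymm (fun r hr => ?_) (Ideal.map_le_iff_le_comap.1 hJg)⟩
  rw [RingHom.mem_ker]
  by_contra hne
  obtain ⟨n, y, hy⟩ := hgenV r hne
  have hk : r * y - f ^ n ∈ RingHom.ker π := by
    rw [RingHom.mem_ker, map_sub, map_mul, map_pow, hy, sub_self]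
  have h3 : algebraMap A B f ^ n ∈ g := by
    have e : algebraMap A B f ^ n =
        algebraMap A B r * algebraMap A B y - algebraMap A B (r * y - f ^ n) := by
      rw [map_sub, map_mul, map_pow]; ring
    rw [e]
    exact g.sub_mem (g.mul_mem_right _ hr) (hJg (Ideal.mem_map_of_mem _ hk))
  exact Set.disjoint_left.1 hgT h3 (Submonoid.mem_sup_right ⟨n, rfl⟩)

/-- Over a point where `f` vanishes an algebra in which `f` is regular has finite fibres, if the
fibre over `ker π` is finite. -/
theorem finite_fibre [Algebra.FiniteType A B] (π : A →+* V) (hπ : Function.Surjective π) (f : A)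
    (hf : π f ≠ 0) (hdiv : ∀ x, π x = 0 → f ∣ x)
    (hgenV : ∀ r, π r ≠ 0 → ∃ (n : ℕ) (y : A), π r * π y = π f ^ n)
    (hfB : algebraMap A B f ∈ nonZeroDivisors B)
    (hgen : {g : PrimeSpectrum B | g.asIdeal.comap (algebraMap A B) = RingHom.ker π}.Finite)
    (p : PrimeSpectrum A) (hp : f ∈ p.asIdeal) :
    (PrimeSpectrum.comap (algebraMap A B) ⁻¹' {p}).Finite := by
  let N : Ideal B :=
    { carrier := {x | ∃ r : A, π r ≠ 0 ∧ algebraMap A B r * x ∈ (RingHom.ker π).map (algebraMap A B)}
      add_mem' := by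
        rintro x y ⟨r, hr, hrx⟩ ⟨s, hs, hsy⟩
        refine ⟨r * s, by rw [map_mul]; exact mul_ne_zero hr hs, ?_⟩
        rw [map_mul, mul_add]
        refine Ideal.add_mem _ ?_ ?_
        · rw [mul_right_comm]; exact Ideal.mul_mem_right _ _ hrx
        · rw [mul_assoc]; exact Ideal.mul_mem_left _ _ hsy
      zero_mem' := ⟨1, by rw [map_one]; exact one_ne_zero, by rw [mul_zero]; exact Ideal.zero_mem _⟩
      smul_mem' := by
        rintro c x ⟨r, hr, hrx⟩
        exact ⟨r, hr, by rw [smul_eq_mul, mul_left_comm]; exact Ideal.mul_mem_left _ _ hrx⟩ }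
  let B' := B ⧸ N
  have hkill : ∀ x ∈ RingHom.ker π, algebraMap A B' x = 0 := fun x hx => by
    rw [IsScalarTower.algebraMap_apply A B B', Ideal.Quotient.algebraMap_eq, Ideal.Quotient.eq_zero_iff_mem]
    exact ⟨1, by rw [map_one]; exact one_ne_zero, by rw [map_one, one_mul]; exact Ideal.mem_map_of_mem _ hx⟩
  let θ : V →+* B' := RingHom.liftOfSurjective π hπ ⟨algebraMap A B', hkill⟩
  letI : Algebra V B' := θ.toAlgebra
  have hθ : ∀ x, algebraMap V B' (π x) = algebraMap A B' x := fun x =>
    RingHom.liftOfRightInverse_comp_apply π _ (Function.rightInverse_surjInv hπ) ⟨algebraMap A B', hkill⟩ x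
  letI : Algebra A V := π.toAlgebra
  have : IsScalarTower A V B' := IsScalarTower.of_algebraMap_eq fun x => (hθ x).symm
  have : Algebra.FiniteType A B' := inferInstance
  have : Algebra.FiniteType V B' := Algebra.FiniteType.of_restrictScalars_finiteType A V B'
  have : Module.Flat V B' := by
    rw [Module.Flat.flat_iff_torsion_eq_bot_of_isBezout, eq_bot_iff]
    intro x hx
    obtain ⟨⟨v, hv⟩, hvx⟩ := (Submodule.mem_torsion_iff x).1 hx
    obtain ⟨r, rfl⟩ := hπ v
    obtain ⟨x, rfl⟩ := Ideal.Quotient.mk_surjective x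
    have h1 : algebraMap V B' (π r) * Ideal.Quotient.mk N x = 0 := by
      rw [← Algebra.smul_def]; exact hvx
    rw [hθ, IsScalarTower.algebraMap_apply A B B', Ideal.Quotient.algebraMap_eq, ← map_mul,
      Ideal.Quotient.eq_zero_iff_mem] at h1
    obtain ⟨s, hs, hsx⟩ := h1
    rw [Submodule.mem_bot, Ideal.Quotient.eq_zero_iff_mem]
    exact ⟨s * r, by rw [map_mul]; exact mul_ne_zero hs (nonZeroDivisors.ne_zero hv),
      by rw [map_mul, mul_assoc]; exact hsx⟩
  have hq : Algebra.QuasiFinite V B' := by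
    refine S18734.quasiFinite_of_generic ?_
    let K := FractionRing V
    letI : Algebra K (B' ⊗[V] K) :=
      (Algebra.TensorProduct.includeRight : K →ₐ[V] B' ⊗[V] K).toRingHom.toAlgebra
    have : IsScalarTower V K (B' ⊗[V] K) := IsScalarTower.of_algebraMap_eq fun v =>
      ((Algebra.TensorProduct.includeRight : K →ₐ[V] B' ⊗[V] K).commutes v).symm
    show Algebra.QuasiFinite K (B' ⊗[V] K)
    have : Algebra.FiniteType K (B' ⊗[V] K) :=
      Algebra.FiniteType.equiv (A := K ⊗[V] B') inferInstance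
        { (Algebra.TensorProduct.comm V K B').toRingEquiv with
          commutes' := fun k => by
            show Algebra.TensorProduct.comm V K B' (k ⊗ₜ 1) = 1 ⊗ₜ k
            rfl }
    rw [Algebra.QuasiFinite.iff_finite_comap_preimage_singleton]
    intro w
    let α : B →+* B' ⊗[V] K :=
      (Algebra.TensorProduct.includeLeftRingHom : B' →+* B' ⊗[V] K).comp (Ideal.Quotient.mk N)
    have : IsLocalization (Algebra.algebraMapSubmonoid B' (nonZeroDivisors V)) (B' ⊗[V] K) :=
      inferInstance
    have hinj : Function.Injective (PrimeSpectrum.comap α) := by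
      rw [show α = (algebraMap B' (B' ⊗[V] K)).comp (Ideal.Quotient.mk N) from rfl]
      intro a b hab
      rw [PrimeSpectrum.comap_comp_apply, PrimeSpectrum.comap_comp_apply] at hab
      exact PrimeSpectrum.localization_comap_injective _ (Algebra.algebraMapSubmonoid B' (nonZeroDivisors V))
        (PrimeSpectrum.comap_injective_of_surjective _ Ideal.Quotient.mk_surjective hab)
    refine Set.Finite.subset (hgen.preimage hinj.injOn) fun Q _ => ?_
    show (Q.asIdeal.comap α).comap (algebraMap A B) = RingHom.ker π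
    rw [Ideal.comap_comap]
    have e : α.comp (algebraMap A B) =
        ((algebraMap K (B' ⊗[V] K)).comp (algebraMap V K)).comp π := by
      refine RingHom.ext fun x => ?_
      show algebraMap B' (B' ⊗[V] K) (algebraMap A B' x) = algebraMap K _ (algebraMap V K (π x))
      rw [← hθ, ← IsScalarTower.algebraMap_apply V K, ← IsScalarTower.algebraMap_apply V B']
    rw [e, ← Ideal.comap_comap, ← Ideal.comap_comap,
      (Ideal.eq_bot_or_top _).resolve_right (Ideal.comap_ne_top _ Q.2.ne_top),
      Ideal.comap_bot_of_injective _ (IsFractionRing.injective V K)]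
    rfl
  obtain ⟨pV, hpV⟩ : ∃ pV : PrimeSpectrum V, pV.asIdeal.comap π = p.asIdeal := by
    have hker : RingHom.ker π ≤ p.asIdeal := fun x hx => by
      obtain ⟨y, rfl⟩ := hdiv x hx
      exact p.asIdeal.mul_mem_right _ hp
    refine ⟨⟨p.asIdeal.map π, Ideal.map_isPrime_of_surjective hπ hker⟩, ?_⟩
    show (p.asIdeal.map π).comap π = _
    rw [Ideal.comap_map_of_surjective _ hπ, ← RingHom.ker_eq_comap_bot, sup_eq_left.2 hker]
  refine ((Algebra.QuasiFinite.iff_finite_comap_preimage_singleton.1 hq pV).image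
    (PrimeSpectrum.comap (Ideal.Quotient.mk N))).subset fun z hz => ?_
  have hzp : z.asIdeal.comap (algebraMap A B) = p.asIdeal := congrArg PrimeSpectrum.asIdeal hz
  have hNz : N ≤ z.asIdeal := by
    obtain ⟨g, hg, hgz, hgc⟩ := exists_prime_over_ker π f hf hdiv hgenV hfB z.asIdeal (hzp.ge hp)
    rintro x ⟨r, hr, hrx⟩
    refine hgz ((hg.mem_or_mem ((Ideal.map_le_iff_le_comap.2 hgc.ge) hrx)).resolve_left fun hrg => ?_)
    have h1 : r ∈ g.comap (algebraMap A B) := hrg
    rw [hgc] at h1
    exact hr h1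
  have hker : RingHom.ker (Ideal.Quotient.mk N) ≤ z.asIdeal := by rwa [Ideal.mk_ker]
  refine ⟨⟨z.asIdeal.map (Ideal.Quotient.mk N),
    Ideal.map_isPrime_of_surjective Ideal.Quotient.mk_surjective hker⟩, ?_, ?_⟩
  · refine PrimeSpectrum.ext (Ideal.comap_injective_of_surjective π hπ ?_)
    show ((z.asIdeal.map (Ideal.Quotient.mk N)).comap (algebraMap V B')).comap π = _
    rw [hpV, ← hzp, Ideal.comap_comap,
      show (algebraMap V B').comp π = (Ideal.Quotient.mk N).comp (algebraMap A B) from RingHom.ext hθ,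
      ← Ideal.comap_comap, Ideal.comap_map_of_surjective _ Ideal.Quotient.mk_surjective,
      ← RingHom.ker_eq_comap_bot, sup_eq_left.2 hker]
  · refine PrimeSpectrum.ext ?_
    show (z.asIdeal.map (Ideal.Quotient.mk N)).comap (Ideal.Quotient.mk N) = _
    rw [Ideal.comap_map_of_surjective _ Ideal.Quotient.mk_surjective, ← RingHom.ker_eq_comap_bot,
      sup_eq_left.2 hker]

end Groth.Agent.ModPairLib.SemiVal.FiniteFibres
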