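import Groth.Agent.FlatOpen.Slice
import Groth.Agent.S0504
import Mathlib

/-!
# Finite free slices of flat algebras over henselian local rings

Every flat finitely presented algebra with nonempty closed fibre over a henselian local ring maps to
a nonzero finite free algebra.
-/

set_option autoImplicit false

universe u

open IsLocalRing

namespace Groth.Agent.ModPairLib.SemiVal.Slice

/-- A flat algebra with finite closed fibre over a henselian local ring has a finite free quotient. -/
lemma exists_free_of_finite_fibre {R : Type u} [CommRing R] [HenselianLocalRing R] (B : Type u)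
    [CommRing B] [Algebra R B] [Algebra.FiniteType R B] [Module.Flat R B]
    (hdim : ∀ q : Ideal (B ⧸ (maximalIdeal R).map (algebraMap R B)), q.IsPrime → q.IsMaximal)
    [Nontrivial (B ⧸ (maximalIdeal R).map (algebraMap R B))] :
    ∃ (C : Type u) (_ : CommRing C) (_ : Algebra R C) (_ : Module.Finite R C) (_ : Module.Free R C)
      (_ : Nontrivial C), Nonempty (B →ₐ[R] C) := by
  set J := (maximalIdeal R).map (algebraMap R B) with hJdef
  let C₀ := B ⧸ J
  let k := R ⧸ maximalIdeal R
  have : IsNoetherianRing C₀ := by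
    letI : Algebra k C₀ := (Ideal.Quotient.lift (maximalIdeal R) (algebraMap R C₀) fun x hx => by
      rw [IsScalarTower.algebraMap_apply R B C₀]
      exact Ideal.Quotient.eq_zero_iff_mem.2 (Ideal.mem_map_of_mem _ hx)).toAlgebra
    have : IsScalarTower R k C₀ := IsScalarTower.of_algebraMap_eq fun _ => rfl
    have : Algebra.FiniteType R C₀ := inferInstance
    have : Algebra.FiniteType k C₀ := Algebra.FiniteType.of_restrictScalars_finiteType R k C₀
    letI := Ideal.Quotient.field (maximalIdeal R)
    exact Algebra.FiniteType.isNoetherianRing k C₀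
  have hfinC : Finite (PrimeSpectrum C₀) := by
    have hmin : ∀ q : PrimeSpectrum C₀, q.asIdeal ∈ minimalPrimes C₀ := fun q => by
      obtain ⟨p, hp, hle⟩ := Ideal.exists_minimalPrimes_le (I := ⊥) (J := q.asIdeal) bot_le
      have : p = q.asIdeal := (hdim p hp.1.1).eq_of_le q.2.ne_top hle
      exact this ▸ hp
    have := (minimalPrimes.finite_of_isNoetherianRing C₀).to_subtype
    exact Finite.of_injective (fun q : PrimeSpectrum C₀ => (⟨q.asIdeal, hmin q⟩ : minimalPrimes C₀))
      fun a b h => PrimeSpectrum.ext (congrArg Subtype.val h)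
  have hover : ∀ q : PrimeSpectrum B, J ≤ q.asIdeal → q.asIdeal.IsMaximal := fun q hq => by
    have hker : RingHom.ker (Ideal.Quotient.mk J) ≤ q.asIdeal := by rwa [Ideal.mk_ker]
    have := hdim _ (Ideal.map_isPrime_of_surjective Ideal.Quotient.mk_surjective hker)
    have h2 := Ideal.comap_isMaximal_of_surjective (Ideal.Quotient.mk J) Ideal.Quotient.mk_surjective
      (K := q.asIdeal.map (Ideal.Quotient.mk J))
    rwa [Ideal.comap_map_of_surjective _ Ideal.Quotient.mk_surjective,
      ← RingHom.ker_eq_comap_bot, sup_eq_left.2 hker] at h2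
  obtain ⟨e, he, hfin, h⟩ :=
    Hensel.exists_idempotent_finite_and_forall_not_quasiFiniteAt R B
  obtain ⟨q₀⟩ := (inferInstance : Nonempty (PrimeSpectrum C₀))
  let q := q₀.comap (Ideal.Quotient.mk J)
  have hJq : J ≤ q.asIdeal := fun x hx => by
    show Ideal.Quotient.mk J x ∈ q₀.asIdeal
    rw [Ideal.Quotient.eq_zero_iff_mem.2 hx]
    exact q₀.asIdeal.zero_mem
  have hqo : q.asIdeal.comap (algebraMap R B) = maximalIdeal R :=
    ((maximalIdeal.isMaximal R).eq_of_le (Ideal.comap_ne_top _ q.2.ne_top)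
      (Ideal.map_le_iff_le_comap.1 hJq)).symm
  have hqf : Algebra.QuasiFiniteAt R q.asIdeal := by
    refine Algebra.QuasiFiniteAt.of_isOpen_singleton_fiber q ?_
    let F : Type u := ↥(PrimeSpectrum.comap (algebraMap R B) ⁻¹' {q.comap (algebraMap R B)})
    have hmem : ∀ z : F, J ≤ z.1.asIdeal := fun z => by
      rw [hJdef, Ideal.map_le_iff_le_comap, ← hqo]
      exact le_of_eq (congrArg PrimeSpectrum.asIdeal z.2).symm
    have : T1Space F := ⟨fun z => by
      have hz : IsClosed ({z.1} : Set (PrimeSpectrum B)) :=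
        (PrimeSpectrum.isClosed_singleton_iff_isMaximal _).2 (hover _ (hmem z))
      have e1 : ({z} : Set F) = Subtype.val ⁻¹' {z.1} := by
        ext y
        simp only [Set.mem_singleton_iff, Set.mem_preimage]
        exact Subtype.ext_iff
      rw [e1]
      exact hz.preimage continuous_subtype_val⟩
    have : Finite F := by
      have hsub : Set.range (Subtype.val : F → PrimeSpectrum B) ⊆
          Set.range (PrimeSpectrum.comap (Ideal.Quotient.mk J)) := by
        rintro _ ⟨z, rfl⟩
        rw [range_comap_of_surjective _ _ Ideal.Quotient.mk_surjective, Ideal.mk_ker,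
          PrimeSpectrum.mem_zeroLocus]
        exact hmem z
      have := ((Set.finite_range _).subset hsub).to_subtype
      exact Finite.of_injective
        (fun z : F => (⟨z.1, z, rfl⟩ : Set.range (Subtype.val : F → PrimeSpectrum B)))
        fun a b hab => Subtype.ext (congrArg Subtype.val hab :)
    exact isOpen_discrete _
  have heq : e ∉ q.asIdeal := h q.asIdeal ⟨hqo.symm⟩ hqf
  let C := B ⧸ Ideal.span {1 - e}
  have : Nontrivial C := by
    refine Ideal.Quotient.nontrivial_iff.2 fun ht => q.2.ne_top (top_unique ?_)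
    rw [← ht, Ideal.span_le, Set.singleton_subset_iff]
    have h0 : e * (1 - e) = 0 := by rw [mul_sub, mul_one, he, sub_self]
    exact (q.2.mem_or_mem (h0 ▸ q.asIdeal.zero_mem)).resolve_left heq
  have : Module.Flat B C := by
    have : IsLocalization.Away e C :=
      IsLocalization.Away.quotient_of_isIdempotentElem (by exact he)
    exact IsLocalization.flat C (Submonoid.powers e)
  have : Module.Flat R C := Module.Flat.trans R B C
  exact ⟨C, inferInstance, inferInstance, hfin, Module.free_of_flat_of_isLocalRing, inferInstance,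
    ⟨Ideal.Quotient.mkₐ R _⟩⟩

/-- Cutting by a nonzerodivisor on the closed fibre. -/
lemma exists_slice_step {R : Type u} [CommRing R] [IsLocalRing R] (B : Type u) [CommRing B]
    [Algebra R B] [Algebra.FinitePresentation R B] [Module.Flat R B] (h : B)
    (hreg : ∀ m : B, h * m ∈ (maximalIdeal R).map (algebraMap R B) →
      m ∈ (maximalIdeal R).map (algebraMap R B)) :
    ∃ g : B, 1 - g ∈ (maximalIdeal R).map (algebraMap R B) ∧
      Module.Flat R (Localization.Away (Ideal.Quotient.mk (Ideal.span {h}) g)) := by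
  set J := (maximalIdeal R).map (algebraMap R B) with hJdef
  let u : B →ₗ[B] B := LinearMap.mulLeft B h
  let O : Set (PrimeSpectrum B) := {P | FlatCA.FlatAt R P.asIdeal (B ⧸ LinearMap.range u) ∧
    ∀ m : B, u m = 0 → ∃ s ∉ P.asIdeal, s • m = 0}
  have hO : PrimeSpectrum.zeroLocus (J : Set B) ⊆ O := by
    intro P hP
    rw [PrimeSpectrum.mem_zeroLocus] at hP
    have hc : P.asIdeal.comap (algebraMap R B) = maximalIdeal R :=
      ((maximalIdeal.isMaximal R).eq_of_le (Ideal.comap_ne_top _ P.2.ne_top)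
        (Ideal.map_le_iff_le_comap.1 hP)).symm
    have hflat : FlatCA.FlatAt R P.asIdeal B :=
      show Module.Flat R (LocalizedModule P.asIdeal.primeCompl B) from
        Module.Flat.trans R B _
    refine FlatOpen.injective_coker_flat_of_fibEq R B u P.asIdeal hflat fun m hm => ⟨1, ?_, ?_⟩
    · exact fun h1 => P.2.ne_top ((Ideal.eq_top_iff_one _).2 h1)
    · rw [hc, smul_eq_mul, Ideal.mul_top] at hm ⊢
      rw [one_smul]
      exact hreg m hm
  have hopen : IsOpen O := FlatOpen.isOpen_injective_coker_flat R B u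
  obtain ⟨K, hK⟩ := (PrimeSpectrum.isClosed_iff_zeroLocus_ideal _).1 hopen.isClosed_compl
  have hKJ : K ⊔ J = ⊤ := by
    by_contra hne
    obtain ⟨M, hM, hle⟩ := Ideal.exists_le_maximal _ hne
    have h1 : (⟨M, hM.isPrime⟩ : PrimeSpectrum B) ∈ PrimeSpectrum.zeroLocus (K : Set B) :=
      fun x hx => hle (Ideal.mem_sup_left hx)
    rw [← hK] at h1
    exact h1 (hO fun x hx => hle (Ideal.mem_sup_right hx))
  obtain ⟨g, hg, j, hj, hgj⟩ := Submodule.mem_sup.1 ((Ideal.eq_top_iff_one _).1 hKJ)
  refine ⟨g, ?_, ?_⟩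
  · rwa [← hgj, add_sub_cancel_left]
  let C := Localization.Away (Ideal.Quotient.mk (Ideal.span {h}) g)
  have hr : LinearMap.range u = Ideal.span {h} := by
    ext z
    rw [show Ideal.span {h} = Submodule.span B {h} from rfl, Submodule.mem_span_singleton]
    exact exists_congr fun c => by simp [u, mul_comm]
  let φ : (B ⧸ LinearMap.range u) →ₗ[B] C :=
    ((Algebra.linearMap (B ⧸ Ideal.span {h}) C).restrictScalars B) ∘ₗ
      (Submodule.quotEquivOfEq _ _ hr).toLinearMap
  have : IsLocalizedModule (Submonoid.powers g)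
      ((Algebra.linearMap (B ⧸ Ideal.span {h}) C).restrictScalars B) := by
    haveI : IsLocalizedModule (Submonoid.powers (Ideal.Quotient.mk (Ideal.span {h}) g))
        (Algebra.linearMap (B ⧸ Ideal.span {h}) C) :=
      (isLocalizedModule_iff_isLocalization' _ _).2 inferInstance
    exact FlatOpen.isLocalizedModule_restrict (Submonoid.powers g)
      (Submonoid.powers (Ideal.Quotient.mk (Ideal.span {h}) g))
      (by rw [Algebra.algebraMapSubmonoid, Submonoid.map_powers]; rfl)
      (Algebra.linearMap (B ⧸ Ideal.span {h}) C)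
  have : IsLocalizedModule (Submonoid.powers g) φ := inferInstance
  exact FlatOpen.flat_of_flatAt_basicOpen (R := R) g φ fun P hP hgP => by
    have h1 : (⟨P, hP⟩ : PrimeSpectrum B) ∉ PrimeSpectrum.zeroLocus (K : Set B) :=
      fun hh => hgP (hh hg)
    rw [← hK, Set.mem_compl_iff, not_not] at h1
    exact h1.1

theorem exists_finite_free {R : Type u} [CommRing R] [HenselianLocalRing R] {C₀ : Type u}
    [CommRing C₀] [IsNoetherianRing C₀] (I : Ideal C₀) :
    ∀ (B : Type u) [CommRing B] [Algebra R B] [Algebra.FinitePresentation R B] [Module.Flat R B]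
      (π : C₀ →+* B ⧸ (maximalIdeal R).map (algebraMap R B)), Function.Surjective π →
      RingHom.ker π = I → I ≠ ⊤ →
      ∃ (C : Type u) (_ : CommRing C) (_ : Algebra R C) (_ : Module.Finite R C) (_ : Module.Free R C)
        (_ : Nontrivial C), Nonempty (B →ₐ[R] C) := by
  induction I using WellFoundedGT.induction with
  | ind I IH =>
  intro B _ _ _ _
  set J := (maximalIdeal R).map (algebraMap R B) with hJdef
  intro π hπ hker hI
  have : Nontrivial (B ⧸ J) := by
    refine Ideal.Quotient.nontrivial_iff.2 fun hJ => hI ?_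
    have := Ideal.Quotient.subsingleton_iff.2 hJ
    rw [← hker, Ideal.eq_top_iff_one, RingHom.mem_ker]
    exact Subsingleton.elim _ _
  have : IsNoetherianRing (B ⧸ J) := isNoetherianRing_of_surjective C₀ (B ⧸ J) _ hπ
  by_cases hdim : ∀ q : Ideal (B ⧸ J), q.IsPrime → q.IsMaximal
  · exact exists_free_of_finite_fibre B hdim
  -- a nonzerodivisor of the fibre which is not a unit
  obtain ⟨h₀, hnu, hnz⟩ : ∃ h₀ : B ⧸ J, ¬ IsUnit h₀ ∧ h₀ ∈ nonZeroDivisors (B ⧸ J) := by
    by_contra hall
    push Not at hall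
    have hass : ∀ M : Ideal (B ⧸ J), M.IsMaximal → M ∈ associatedPrimes (B ⧸ J) (B ⧸ J) := by
      intro M hM
      have hsub : (M : Set (B ⧸ J)) ⊆ ⋃ p ∈ associatedPrimes (B ⧸ J) (B ⧸ J), p := by
        rw [biUnion_associatedPrimes_eq_compl_nonZeroDivisors]
        intro x hx hnz
        exact hall x (fun hu => hM.ne_top (Ideal.eq_top_of_isUnit_mem _ hx hu)) hnz
      obtain ⟨p, hp, hle⟩ := (M.subset_union_prime_finite (associatedPrimes.finite (B ⧸ J) (B ⧸ J))
        (f := id) 0 0 fun _ h _ _ => h.1).1 hsub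
      have hMp : M = p := hM.eq_of_le hp.1.ne_top hle
      exact hMp ▸ hp
    apply hdim
    intro q hq
    letI : Algebra (R ⧸ maximalIdeal R) (B ⧸ J) :=
      (Ideal.Quotient.lift (maximalIdeal R) (algebraMap R (B ⧸ J)) fun x hx => by
        rw [IsScalarTower.algebraMap_apply R B (B ⧸ J)]
        exact Ideal.Quotient.eq_zero_iff_mem.2 (Ideal.mem_map_of_mem _ hx)).toAlgebra
    have : IsScalarTower R (R ⧸ maximalIdeal R) (B ⧸ J) := IsScalarTower.of_algebraMap_eq fun _ => rfl
    have : Algebra.FiniteType R (B ⧸ J) := inferInstance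
    have : Algebra.FiniteType (R ⧸ maximalIdeal R) (B ⧸ J) :=
      Algebra.FiniteType.of_restrictScalars_finiteType R _ _
    letI := Ideal.Quotient.field (maximalIdeal R)
    have : IsJacobsonRing (B ⧸ J) := isJacobsonRing_of_finiteType (A := R ⧸ maximalIdeal R)
    have hfin : {M : Ideal (B ⧸ J) | M.IsMaximal ∧ q ≤ M}.Finite :=
      (associatedPrimes.finite (B ⧸ J) (B ⧸ J)).subset fun M hM => hass M hM.1
    have hq' : q.jacobson = q := IsJacobsonRing.out (inferInstance : IsJacobsonRing (B ⧸ J)) hq.isRadical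
    obtain ⟨M, ⟨hM, hqM⟩, hMq⟩ : ∃ M ∈ {M : Ideal (B ⧸ J) | M.IsMaximal ∧ q ≤ M}, M ≤ q := by
      have h1 : hfin.toFinset.inf id ≤ q := by
        intro x hx
        rw [← hq', Ideal.jacobson, Submodule.mem_sInf]
        rintro M ⟨hqM, hM⟩
        exact (Finset.inf_le (f := id) (hfin.mem_toFinset.2 ⟨hM, hqM⟩)) hx
      obtain ⟨M, hM, hMq⟩ := hq.inf_le'.1 h1
      exact ⟨M, hfin.mem_toFinset.1 hM, hMq⟩
    have hMq' : M = q := le_antisymm hMq hqM
    exact hMq' ▸ hM
  obtain ⟨h, rfl⟩ := Ideal.Quotient.mk_surjective h₀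
  have hreg : ∀ m : B, h * m ∈ J → m ∈ J := fun m hm => by
    rw [← Ideal.Quotient.eq_zero_iff_mem] at hm ⊢
    rw [map_mul, mul_comm] at hm
    exact (mem_nonZeroDivisors_iff_right.1 hnz) _ hm
  obtain ⟨g, hg, hflat⟩ := exists_slice_step B h hreg
  let D := B ⧸ Ideal.span {h}
  let B' := Localization.Away (Ideal.Quotient.mk (Ideal.span {h}) g)
  have : Algebra.FinitePresentation R D :=
    Algebra.FinitePresentation.quotient (Submodule.fg_span_singleton h)
  have : Algebra.FinitePresentation D B' :=
    IsLocalization.Away.finitePresentation (Ideal.Quotient.mk (Ideal.span {h}) g)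
  have : Algebra.FinitePresentation R B' := Algebra.FinitePresentation.trans R D B'
  let ι : B →ₐ[R] B' := (IsScalarTower.toAlgHom R D B').comp (Ideal.Quotient.mkₐ R (Ideal.span {h}))
  set J' := (maximalIdeal R).map (algebraMap R B') with hJ'def
  have hJJ' : J ≤ J'.comap ι.toRingHom := by
    rw [hJdef, Ideal.map_le_iff_le_comap]
    intro x hx
    show ι (algebraMap R B x) ∈ J'
    rw [ι.commutes]
    exact Ideal.mem_map_of_mem _ hx
  let ψ : B ⧸ J →+* B' ⧸ J' := Ideal.quotientMap J' ι.toRingHom hJJ'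
  let π' : C₀ →+* B' ⧸ J' := ψ.comp π
  have hg1 : Ideal.Quotient.mk J' (ι g) = 1 := by
    have h1 : ψ (Ideal.Quotient.mk J g) = ψ 1 := by
      congr 1
      exact ((Ideal.Quotient.eq).2 hg).symm
    rw [map_one, Ideal.quotientMap_mk] at h1
    exact h1
  have hψ : Function.Surjective ψ := by
    intro y
    obtain ⟨y, rfl⟩ := Ideal.Quotient.mk_surjective y
    obtain ⟨⟨d, ⟨_, n, rfl⟩⟩, hy⟩ :=
      IsLocalization.surj (Submonoid.powers (Ideal.Quotient.mk (Ideal.span {h}) g)) y
    obtain ⟨b, rfl⟩ := Ideal.Quotient.mk_surjective d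
    refine ⟨Ideal.Quotient.mk J b, ?_⟩
    rw [Ideal.quotientMap_mk]
    show Ideal.Quotient.mk J' (ι b) = _
    have hy' : y * ι (g ^ n) = ι b := by
      simp only [map_pow] at hy ⊢
      exact hy
    rw [← hy', map_mul, map_pow, map_pow, hg1, one_pow, mul_one]
  have hh0 : ψ (Ideal.Quotient.mk J h) = 0 := by
    rw [Ideal.quotientMap_mk]
    show Ideal.Quotient.mk J' (algebraMap D B' (Ideal.Quotient.mk (Ideal.span {h}) h)) = 0
    rw [Ideal.Quotient.eq_zero_iff_mem.2 (Ideal.mem_span_singleton_self h), map_zero, map_zero]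
  have hnt : Nontrivial (B' ⧸ J') := by
    let K := (B ⧸ J) ⧸ Ideal.span {Ideal.Quotient.mk J h}
    have : Nontrivial K := Ideal.Quotient.nontrivial_iff.2 (by rwa [Ne, Ideal.span_singleton_eq_top])
    let q₀ : B →+* K := (Ideal.Quotient.mk _).comp (Ideal.Quotient.mk J)
    let q₁ : D →+* K := Ideal.Quotient.lift _ q₀ fun x hx => by
      obtain ⟨c, rfl⟩ := Ideal.mem_span_singleton'.1 hx
      simp [q₀, map_mul, Ideal.Quotient.eq_zero_iff_mem.2 (Ideal.mem_span_singleton_self _)]
    have hgu : IsUnit (q₁ (Ideal.Quotient.mk (Ideal.span {h}) g)) := by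
      have : Ideal.Quotient.mk J g = 1 := by
        rw [← map_one (Ideal.Quotient.mk J)]
        exact ((Ideal.Quotient.eq).2 hg).symm
      show IsUnit (Ideal.Quotient.mk (Ideal.span {Ideal.Quotient.mk J h}) (Ideal.Quotient.mk J g))
      rw [this, map_one]
      exact isUnit_one
    let q₂ : B' →+* K := IsLocalization.Away.lift _ hgu
    have hq₂ : J' ≤ RingHom.ker q₂ := by
      rw [hJ'def, Ideal.map_le_iff_le_comap]
      intro x hx
      show q₂ (algebraMap R B' x) = 0
      rw [IsScalarTower.algebraMap_apply R D B', IsLocalization.Away.lift_eq]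
      show q₁ (Ideal.Quotient.mk _ (algebraMap R B x)) = 0
      rw [Ideal.Quotient.lift_mk]
      show Ideal.Quotient.mk _ (Ideal.Quotient.mk J (algebraMap R B x)) = 0
      rw [Ideal.Quotient.eq_zero_iff_mem.2 (show algebraMap R B x ∈ J from Ideal.mem_map_of_mem _ hx),
        map_zero]
    exact (Ideal.Quotient.lift J' q₂ fun x hx => hq₂ hx).domain_nontrivial
  have hlt : I < RingHom.ker π' := by
    refine lt_of_le_of_ne (fun x hx => ?_) fun e => ?_
    · rw [← hker, RingHom.mem_ker] at hx
      show ψ (π x) = 0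
      rw [hx, map_zero]
    · obtain ⟨c, hc⟩ := hπ (Ideal.Quotient.mk J h)
      have hc' : c ∈ RingHom.ker π' := by
        show ψ (π c) = 0
        rw [hc, hh0]
      rw [← e, ← hker, RingHom.mem_ker, hc] at hc'
      exact nonZeroDivisors.ne_zero hnz hc'
  obtain ⟨C, i1, i2, i3, i4, i5, ⟨r⟩⟩ := IH _ hlt B' π' (hψ.comp hπ) rfl fun ht => by
    have h1 : π' 1 = 0 := by
      rw [← RingHom.mem_ker, ht]
      exact Submodule.mem_top
    rw [map_one] at h1
    exact one_ne_zero h1
  exact ⟨C, i1, i2, i3, i4, i5, ⟨r.comp ι⟩⟩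

/-- A flat finitely presented algebra with nonempty closed fibre over a henselian local ring in which
every nonzero finite free algebra has a retraction has a retraction. -/
theorem exists_retraction {R : Type u} [CommRing R] [HenselianLocalRing R]
    (hfree : ∀ (C : Type u) [CommRing C] [Algebra R C] [Module.Finite R C] [Module.Free R C]
      [Nontrivial C], Nonempty (C →ₐ[R] R))
    (B : Type u) [CommRing B] [Algebra R B] [Algebra.FinitePresentation R B] [Module.Flat R B]
    (hB : (maximalIdeal R).map (algebraMap R B) ≠ ⊤) : Nonempty (B →ₐ[R] R) := by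
  set J := (maximalIdeal R).map (algebraMap R B) with hJdef
  letI : Algebra (R ⧸ maximalIdeal R) (B ⧸ J) :=
    (Ideal.Quotient.lift (maximalIdeal R) (algebraMap R (B ⧸ J)) fun x hx => by
      rw [IsScalarTower.algebraMap_apply R B (B ⧸ J)]
      exact Ideal.Quotient.eq_zero_iff_mem.2 (Ideal.mem_map_of_mem _ hx)).toAlgebra
  have : IsScalarTower R (R ⧸ maximalIdeal R) (B ⧸ J) := IsScalarTower.of_algebraMap_eq fun _ => rfl
  have : Algebra.FiniteType R (B ⧸ J) := inferInstance
  have : Algebra.FiniteType (R ⧸ maximalIdeal R) (B ⧸ J) :=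
    Algebra.FiniteType.of_restrictScalars_finiteType R _ _
  letI := Ideal.Quotient.field (maximalIdeal R)
  have : IsNoetherianRing (B ⧸ J) := Algebra.FiniteType.isNoetherianRing (R ⧸ maximalIdeal R) _
  obtain ⟨C, i1, i2, i3, i4, i5, ⟨r⟩⟩ := exists_finite_free (C₀ := B ⧸ J)
    (RingHom.ker (RingHom.id (B ⧸ J))) B (RingHom.id _) Function.surjective_id rfl (fun ht => by
      rw [Ideal.eq_top_iff_one, RingHom.mem_ker, RingHom.id_apply,
        ← map_one (Ideal.Quotient.mk J), Ideal.Quotient.eq_zero_iff_mem] at ht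
      exact hB ((Ideal.eq_top_iff_one _).2 ht))
  obtain ⟨s⟩ := hfree C
  exact ⟨s.comp r⟩

end Groth.Agent.ModPairLib.SemiVal.Slice
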