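import Groth.Agent.ModPairLib.SemiVal.Etale
import Groth.Agent.ModPairLib.SemiVal.Finite
import Groth.Agent.ModPairLib.SemiVal.Slice

/-!
# Modulus pairs which are local for fppf coverings
-/

set_option autoImplicit false

universe u

open CategoryTheory CategoryTheory.Limits AlgebraicGeometry TopologicalSpace
open Groth.Agent.IdealSh
open ModPair

namespace Groth.Agent.ModPairLib.SemiVal.Fppf

open Ring Pair AIC

/-- Every nonzero finite free algebra over the generic ring has a retraction if this holds over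
the ring itself. -/
lemma exists_retraction_away {R : Type u} [CommRing R] {a : R} (ha : a ∈ nonZeroDivisors R)
    (hfree : ∀ (C : Type u) [CommRing C] [Algebra R C] [Module.Finite R C] [Module.Free R C]
      [Nontrivial C], Nonempty (C →ₐ[R] R))
    (L : Type u) [CommRing L] [IsLocalRing L] [Algebra R L] [IsLocalization.Away a L]
    (C : Type u) [CommRing C] [Algebra L C] [Module.Finite L C] [Module.Free L C] [Nontrivial C] :
    Nonempty (C →ₐ[L] L) := by
  classical
  have hinj : Function.Injective (algebraMap R L) :=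
    IsLocalization.injective (M := Submonoid.powers a) L (Submonoid.powers_le.2 ha)
  letI : Algebra R C := ((algebraMap L C).comp (algebraMap R L)).toAlgebra
  have : IsScalarTower R L C := IsScalarTower.of_algebraMap_eq fun _ => rfl
  let b := Module.Free.chooseBasis L C
  -- a coordinate of `1` is a unit
  obtain ⟨i₀, hi₀⟩ : ∃ i, IsUnit (b.repr 1 i) := by
    by_contra hne
    push Not at hne
    have hle : (1 : C) ∈ IsLocalRing.maximalIdeal L • (⊤ : Submodule L C) := by
      rw [← b.sum_repr 1]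
      exact Submodule.sum_mem _ fun i _ => Submodule.smul_mem_smul (hne i) Submodule.mem_top
    have htop : (⊤ : Submodule L C) ≤ IsLocalRing.maximalIdeal L • ⊤ := by
      intro x _
      have : x = x * 1 := (mul_one x).symm
      rw [this]
      refine Submodule.smul_induction_on hle (fun r hr y _ => ?_) fun y z hy hz => ?_
      · rw [mul_smul_comm]
        exact Submodule.smul_mem_smul hr Submodule.mem_top
      · rw [mul_add]
        exact Submodule.add_mem _ hy hz
    have hbot := Submodule.eq_bot_of_le_smul_of_le_jacobson_bot _ (⊤ : Submodule L C)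
      Module.Finite.fg_top htop (IsLocalRing.maximalIdeal_le_jacobson ⊥)
    exact top_ne_bot hbot
  -- a basis containing `1`
  let v : Module.Free.ChooseBasisIndex L C → C := fun i => if i = i₀ then 1 else b i
  let f : C →ₗ[L] C := b.constr L v
  have hv : ∀ i, v i ∈ LinearMap.range f := fun i => ⟨b i, b.constr_basis L v i⟩
  have hf : Function.Surjective f := by
    rw [← LinearMap.range_eq_top, ← top_le_iff, ← b.span_eq, Submodule.span_le]
    rintro _ ⟨i, rfl⟩
    rcases eq_or_ne i i₀ with rfl | hne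
    · have h1 : b.repr 1 i • b i ∈ LinearMap.range f := by
        have e : b.repr 1 i • b i = v i - ∑ j ∈ Finset.univ.erase i, b.repr 1 j • v j := by
          have h2 : ∑ j ∈ Finset.univ.erase i, b.repr 1 j • v j =
              ∑ j ∈ Finset.univ.erase i, b.repr 1 j • b j :=
            Finset.sum_congr rfl fun j hj => by simp [v, (Finset.mem_erase.1 hj).1]
          rw [h2, eq_sub_iff_add_eq,
            Finset.add_sum_erase Finset.univ (fun j => b.repr 1 j • b j) (Finset.mem_univ i), b.sum_repr]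
          simp [v]
        rw [e]
        exact sub_mem (hv i) (Submodule.sum_mem _ fun j _ => Submodule.smul_mem _ _ (hv j))
      exact (Submodule.smul_mem_iff_of_isUnit _ hi₀).1 h1
    · have h3 := hv i
      rwa [show v i = b i by simp [v, hne]] at h3
  let c := b.map (LinearEquiv.ofBijective f ⟨OrzechProperty.injective_of_surjective_endomorphism f hf, hf⟩)
  have hc : ∀ i, c i = v i := fun i => b.constr_basis L v i
  have hc₀ : c i₀ = 1 := by rw [hc]; simp [v]
  -- scale
  obtain ⟨s, hs⟩ := IsLocalization.exist_integer_multiples (Submonoid.powers a)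
    (Finset.univ (α := Module.Free.ChooseBasisIndex L C × Module.Free.ChooseBasisIndex L C ×
      Module.Free.ChooseBasisIndex L C)) (fun t => c.repr (c t.1 * c t.2.1) t.2.2)
  let σ : L := algebraMap R L (s : R)
  have hσ : IsUnit σ := IsLocalization.map_units L s
  let ε : Module.Free.ChooseBasisIndex L C → Lˣ := fun i => if i = i₀ then 1 else hσ.unit
  let w := c.unitsSMul ε
  have hw₀ : w i₀ = 1 := by simp [w, ε, hc₀, Module.Basis.unitsSMul_apply]
  have hw₁ : ∀ i, i ≠ i₀ → w i = σ • c i := fun i hi => by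
    simp [w, ε, hi, Module.Basis.unitsSMul_apply, Units.smul_def]
  let M : Submodule R C := Submodule.span R (Set.range w)
  have hmem : ∀ (r : R) i, algebraMap R L r • w i ∈ M := fun r i => by
    rw [algebraMap_smul]
    exact M.smul_mem _ (Submodule.subset_span ⟨i, rfl⟩)
  have hmul : ∀ i j, w i * w j ∈ M := by
    intro i j
    rcases eq_or_ne i i₀ with rfl | hi
    · rw [hw₀, one_mul]; exact Submodule.subset_span ⟨j, rfl⟩
    rcases eq_or_ne j i₀ with rfl | hj
    · rw [hw₀, mul_one]; exact Submodule.subset_span ⟨i, rfl⟩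
    rw [hw₁ i hi, hw₁ j hj, smul_mul_smul_comm, ← c.sum_repr (c i * c j), Finset.smul_sum]
    refine Submodule.sum_mem _ fun k _ => ?_
    obtain ⟨r, hr⟩ := hs (i, j, k) (Finset.mem_univ _)
    rw [Algebra.smul_def] at hr
    rcases eq_or_ne k i₀ with rfl | hk
    · rw [smul_smul, hc₀, ← hw₀, show σ * σ * c.repr (c i * c j) k = algebraMap R L ((s : R) * r) by
        rw [map_mul (algebraMap R L), hr, mul_assoc]]
      exact hmem _ _
    · rw [show (σ * σ) • c.repr (c i * c j) k • c k = algebraMap R L r • w k by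
        rw [hw₁ k hk, hr, smul_smul, smul_smul]
        congr 1
        ring]
      exact hmem _ _
  have hone : (1 : C) ∈ M := Submodule.subset_span ⟨i₀, hw₀⟩
  have hmulM : ∀ x y : C, x ∈ M → y ∈ M → x * y ∈ M := by
    intro x y hx hy
    induction hx using Submodule.span_induction with
    | mem x hx =>
      obtain ⟨i, rfl⟩ := hx
      induction hy using Submodule.span_induction with
      | mem y hy => obtain ⟨j, rfl⟩ := hy; exact hmul i j
      | zero => rw [mul_zero]; exact M.zero_mem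
      | add y z _ _ hy hz => rw [mul_add]; exact M.add_mem hy hz
      | smul r y _ hy => rw [mul_smul_comm]; exact M.smul_mem r hy
    | zero => rw [zero_mul]; exact M.zero_mem
    | add y z _ _ hy hz => rw [add_mul]; exact M.add_mem hy hz
    | smul r y _ hy => rw [smul_mul_assoc]; exact M.smul_mem r hy
  let C₀ : Subalgebra R C := M.toSubalgebra hone hmulM
  have hli : LinearIndependent R w :=
    w.linearIndependent.restrict_scalars (by
      simpa [Algebra.smul_def] using hinj)
  let b₀ : Module.Basis (Module.Free.ChooseBasisIndex L C) R C₀ := Module.Basis.span hli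
  have : Module.Free R C₀ := Module.Free.of_basis b₀
  have : Module.Finite R C₀ := Module.Finite.of_basis b₀
  have : Nontrivial C₀ := ⟨⟨⟨1, hone⟩, ⟨0, M.zero_mem⟩, fun e => one_ne_zero (congrArg Subtype.val e :)⟩⟩
  obtain ⟨r₀⟩ := hfree C₀
  let ψ : C →ₗ[L] L :=
    w.constr L fun i => algebraMap R L (r₀ ⟨w i, Submodule.subset_span ⟨i, rfl⟩⟩)
  have hψ : ∀ (x : C) (hx : x ∈ M), ψ x = algebraMap R L (r₀ ⟨x, hx⟩) := by
    intro x hx
    induction hx using Submodule.span_induction with
    | mem x hx =>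
      obtain ⟨i, rfl⟩ := hx
      exact w.constr_basis L _ i
    | zero => rw [map_zero, show (⟨0, M.zero_mem⟩ : C₀) = 0 from rfl, map_zero, map_zero]
    | add x y hx hy h1 h2 =>
      rw [map_add, h1, h2, ← map_add, ← map_add]
      rfl
    | smul r x hx h1 =>
      rw [LinearMap.map_smul_of_tower, h1, Algebra.smul_def, ← map_mul]
      congr 1
      exact (map_smul r₀ r (⟨x, hx⟩ : C₀)).symm
  refine ⟨AlgHom.ofLinearMap ψ ?_ ?_⟩
  · rw [hψ 1 hone, show (⟨1, hone⟩ : C₀) = 1 from rfl, map_one, map_one]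
  · intro x y
    have key : (LinearMap.mul L C).compr₂ ψ = (LinearMap.mul L L).compl₁₂ ψ ψ := by
      refine w.ext fun i => w.ext fun j => ?_
      show ψ (w i * w j) = ψ (w i) * ψ (w j)
      rw [hψ _ (hmul i j), hψ _ (Submodule.subset_span ⟨i, rfl⟩), hψ _ (Submodule.subset_span ⟨j, rfl⟩)]
      exact (congrArg (algebraMap R L) (map_mul r₀
        (⟨w i, Submodule.subset_span ⟨i, rfl⟩⟩ : C₀) ⟨w j, Submodule.subset_span ⟨j, rfl⟩⟩)).trans
        (map_mul _ _ _)
    exact LinearMap.congr_fun₂ key x y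

/-- The morphism property of fppf coverings. -/
abbrev fppfProp : MorphismProperty Scheme.{u} :=
  @Flat ⊓ @LocallyOfFinitePresentation ⊓ @QuasiCompact ⊓ @QuasiSeparated

/-- Algebra retractions give fppf-locality. -/
theorem fppfLocal_of_retractions {T : Scheme.{u}} [IsAffine T] [IsLocalRing Γ(T, ⊤)]
    (hT : ∀ (B : Type u) [CommRing B] [Algebra Γ(T, ⊤) B] [Algebra.FinitePresentation Γ(T, ⊤) B]
      [Module.Flat Γ(T, ⊤) B],
      (IsLocalRing.maximalIdeal Γ(T, ⊤)).map (algebraMap Γ(T, ⊤) B) ≠ ⊤ →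
      Nonempty (B →ₐ[Γ(T, ⊤)] Γ(T, ⊤)))
    (X : Scheme.{u}) (R : Presieve X) (hR : R ∈ Scheme.precoverage fppfProp.{u} X) (g : T ⟶ X) :
    ∃ (Y : Scheme.{u}) (w : Y ⟶ X) (h : T ⟶ Y), R w ∧ h ≫ w = g := by
  obtain ⟨ι, Z, w, rfl⟩ := Presieve.exists_eq_ofArrows R
  rw [Scheme.ofArrows_mem_precoverage_iff] at hR
  obtain ⟨hs, hw⟩ := hR
  let m : Spec Γ(T, ⊤) := IsLocalRing.closedPoint Γ(T, ⊤)
  obtain ⟨i, y, hy⟩ := hs (g (T.isoSpec.inv m))
  obtain ⟨⟨⟨hflat, hlfp⟩, -⟩, -⟩ := hw i
  let g' := T.isoSpec.inv ≫ g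
  obtain ⟨z, hz, -⟩ := Scheme.Pullback.exists_preimage_pullback (f := g') (g := w i) m y
    (by rw [hy, Scheme.Hom.comp_apply])
  obtain ⟨V, hzV, -⟩ := Comap.exists_affine_le z ⊤ trivial
  have : IsAffine (V.1 : Scheme.{u}) := V.2
  let e := (V.1 : Scheme.{u}).isoSpec
  let p := V.1.ι ≫ pullback.fst g' (w i)
  obtain ⟨φ, hφ⟩ : ∃ φ : Γ(T, ⊤) ⟶ Γ((V.1 : Scheme.{u}), ⊤), Spec.map φ = e.inv ≫ p :=
    ⟨Spec.preimage (e.inv ≫ p), Spec.map_preimage _⟩
  have hfl : φ.hom.Flat := by
    have h1 : Flat (Spec.map φ) := by rw [hφ]; infer_instance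
    rwa [HasRingHomProperty.Spec_iff (P := @Flat)] at h1
  have hfp : φ.hom.FinitePresentation := by
    have h1 : LocallyOfFinitePresentation (Spec.map φ) := by rw [hφ]; infer_instance
    rwa [HasRingHomProperty.Spec_iff (P := @LocallyOfFinitePresentation)] at h1
  algebraize [φ.hom]
  have hcomap : Spec.map φ (e.hom ⟨z, hzV⟩) = m := by
    rw [hφ, ← Scheme.Hom.comp_apply, Iso.hom_inv_id_assoc]
    exact hz
  obtain ⟨r⟩ := hT Γ((V.1 : Scheme.{u}), ⊤) fun ht => by
    have h1 : (IsLocalRing.maximalIdeal Γ(T, ⊤)).map φ.hom ≤ (e.hom ⟨z, hzV⟩).asIdeal :=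
      Ideal.map_le_iff_le_comap.2 (congrArg PrimeSpectrum.asIdeal hcomap).ge
    exact (e.hom ⟨z, hzV⟩).2.ne_top (top_unique (ht.ge.trans h1))
  refine ⟨Z i, w i, T.isoSpec.hom ≫ Spec.map (CommRingCat.ofHom r.toRingHom) ≫ e.inv ≫ V.1.ι ≫
    pullback.snd g' (w i), ⟨i⟩, ?_⟩
  simp only [Category.assoc]
  rw [← pullback.condition]
  have h2 : Spec.map (CommRingCat.ofHom r.toRingHom) ≫ e.inv ≫ p = 𝟙 _ := by
    rw [← hφ, ← Spec.map_comp, ← Spec.map_id]
    congr 1
    ext x
    exact r.commutes x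
  simp only [p, g', Category.assoc] at h2 ⊢
  rw [reassoc_of% h2, Iso.hom_inv_id_assoc]

/-- The hypothesis of locality of a pair for fppf coverings of itself. -/
def PairLocal (P : ModPair.Pair.{u}) : Prop :=
  ∀ (ι : Type u) (U : ι → ModPair.Pair.{u}) (v : ∀ i, U i ⟶ P),
    (∀ i, ModPair.IsMinimal (U i).mod P.mod (v i).hom ∧ Flat (v i).hom ∧
      LocallyOfFinitePresentation (v i).hom ∧ QuasiCompact (v i).hom ∧
      QuasiSeparated (v i).hom) →
    (∀ x : P.total, ∃ (i : ι) (y : (U i).total), (v i).hom.base y = x) →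
    ∃ (i : ι) (h : P ⟶ U i), h ≫ v i = 𝟙 P

lemma exists_section_of_pairLocal {P : ModPair.Pair.{u}} (hP : PairLocal P) {ι : Type u}
    {W : ι → Scheme.{u}} (w : ∀ i, W i ⟶ P.total) (hw : ∀ i, fppfProp.{u} (w i))
    (hs : ∀ x, ∃ i, x ∈ Set.range (w i)) : ∃ (i : ι) (h : P.total ⟶ W i), h ≫ w i = 𝟙 _ := by
  obtain ⟨i, h, e⟩ := hP ι
    (fun i => ⟨W i, P.mod.comap (w i),
      haveI : Flat (w i) := (hw i).1.1.1
      EffCartier.comap_of_flat (w i) P.isEffCartier⟩)
    (fun i => ⟨w i, le_refl _⟩)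
    (fun i => ⟨rfl, (hw i).1.1.1, (hw i).1.1.2, (hw i).1.2, (hw i).2⟩)
    (fun x => let ⟨i, y, hy⟩ := hs x; ⟨i, y, hy⟩)
  exact ⟨i, h.hom, congrArg ModPair.Pair.Hom.hom e⟩

theorem total_fppfLocal {P : ModPair.Pair.{u}} (hP : PairLocal P) (X : Scheme.{u}) (R : Presieve X)
    (hR : R ∈ Scheme.precoverage fppfProp.{u} X) (g : P.total ⟶ X) :
    ∃ (Y : Scheme.{u}) (w : Y ⟶ X) (h : P.total ⟶ Y), R w ∧ h ≫ w = g := by
  obtain ⟨ι, Z, w, rfl⟩ := Presieve.exists_eq_ofArrows R
  rw [Scheme.ofArrows_mem_precoverage_iff] at hR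
  obtain ⟨hs, hw⟩ := hR
  choose j hj using fun x : P.total => hs (g x)
  obtain ⟨x, h, e⟩ := exists_section_of_pairLocal hP (fun x : P.total => pullback.fst g (w (j x)))
    (fun x => by
      obtain ⟨⟨⟨h1, h2⟩, h3⟩, h4⟩ := hw (j x)
      exact ⟨⟨⟨inferInstance, inferInstance⟩, inferInstance⟩, inferInstance⟩)
    (fun x => by
      obtain ⟨y, hy⟩ := hj x
      obtain ⟨z, hz, -⟩ := Scheme.Pullback.exists_preimage_pullback (f := g) (g := w (j x)) x y hy.symm
      exact ⟨x, z, hz⟩)
  refine ⟨Z (j x), w (j x), h ≫ pullback.snd g (w (j x)), ⟨j x⟩, ?_⟩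
  rw [Category.assoc, ← pullback.condition, ← Category.assoc, e, Category.id_comp]

lemma free_retraction_of_pairLocal {P : ModPair.Pair.{u}} [IsAffine P.total] (hP : PairLocal P)
    (C : Type u) [CommRing C] [Algebra Γ(P.total, ⊤) C] [Module.Flat Γ(P.total, ⊤) C]
    [Algebra.FinitePresentation Γ(P.total, ⊤) C]
    (hsurj : Function.Surjective (PrimeSpectrum.comap (algebraMap Γ(P.total, ⊤) C))) :
    Nonempty (C →ₐ[Γ(P.total, ⊤)] Γ(P.total, ⊤)) := by
  let α : Γ(P.total, ⊤) ⟶ CommRingCat.of C := CommRingCat.ofHom (algebraMap Γ(P.total, ⊤) C)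
  have h1 : Flat (Spec.map α) :=
    (HasRingHomProperty.Spec_iff (P := @Flat)).2 (RingHom.flat_algebraMap_iff.2 inferInstance)
  have h2 : LocallyOfFinitePresentation (Spec.map α) :=
    (HasRingHomProperty.Spec_iff (P := @LocallyOfFinitePresentation)).2
      (RingHom.finitePresentation_algebraMap.2 inferInstance)
  obtain ⟨-, h, e⟩ := exists_section_of_pairLocal hP
    (fun _ : PUnit.{u + 1} => Spec.map α ≫ P.total.isoSpec.inv)
    (fun _ => ⟨⟨⟨inferInstance, inferInstance⟩, inferInstance⟩, inferInstance⟩) (fun x => by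
      obtain ⟨y, hy⟩ := hsurj (P.total.isoSpec.hom x)
      refine ⟨PUnit.unit, y, ?_⟩
      show P.total.isoSpec.inv (Spec.map α y) = x
      rw [show Spec.map α y = P.total.isoSpec.hom x from hy, ← Scheme.Hom.comp_apply, Iso.hom_inv_id]
      rfl)
  obtain ⟨ψ, hψ⟩ := retraction_of_section α h e
  exact ⟨⟨ψ.hom, fun x => congrArg (fun f => f.hom x) hψ⟩⟩

lemma strictlyHenselian {P : ModPair.Pair.{u}} [IsAffine P.total] [IsLocalRing Γ(P.total, ⊤)]
    (hP : PairLocal P) : EtCoh.IsStrictlyHenselianLocalRing Γ(P.total, ⊤) :=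
  Etale.strictlyHenselian_of_local P (Etale.hasEtaleRetractions P fun ι U v hv hs =>
    hP ι U v (fun i => by
      obtain ⟨h1, h2, h3, h4⟩ := hv i
      exact ⟨h1, inferInstance, inferInstance, h3, h4⟩) hs)

lemma free_retraction {P : ModPair.Pair.{u}} [IsAffine P.total] [IsLocalRing Γ(P.total, ⊤)]
    (hP : PairLocal P) (C : Type u) [CommRing C] [Algebra Γ(P.total, ⊤) C]
    [Module.Finite Γ(P.total, ⊤) C] [Module.Free Γ(P.total, ⊤) C] [Nontrivial C] :
    Nonempty (C →ₐ[Γ(P.total, ⊤)] Γ(P.total, ⊤)) := by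
  have : Module.FinitePresentation Γ(P.total, ⊤) C := Module.finitePresentation_of_projective _ _
  have : Algebra.FinitePresentation Γ(P.total, ⊤) C :=
    Algebra.FinitePresentation.of_finitePresentation _ _
  have : Module.FaithfullyFlat Γ(P.total, ⊤) C := inferInstance
  exact free_retraction_of_pairLocal hP C PrimeSpectrum.comap_surjective_of_faithfullyFlat

lemma isAIC {P : ModPair.Pair.{u}} [IsAffine P.total] [IsLocalRing Γ(P.total, ⊤)]
    (hP : PairLocal P) : Curves.IsAIC Γ(P.total, ⊤) := by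
  intro F hF hd
  have := hF.finite_adjoinRoot
  have := hF.free_adjoinRoot
  have : Nontrivial (AdjoinRoot F) := Ideal.Quotient.nontrivial_iff.2 fun ht => by
    have h1 : IsUnit F := Ideal.span_singleton_eq_top.1 ht
    rw [hF.isUnit_iff] at h1
    simp [h1] at hd
  obtain ⟨r⟩ := free_retraction hP (AdjoinRoot F)
  refine ⟨r (AdjoinRoot.root F), ?_⟩
  have h1 := congrArg r (AdjoinRoot.eval₂_root F)
  rw [map_zero] at h1
  rw [← h1]
  exact (Polynomial.aeval_algHom_apply r (AdjoinRoot.root F) F).trans (by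
    rw [Polynomial.aeval_def]; rfl)

/-- The interior of an fppf-local semi-valuation pair is fppf-local. -/
theorem interior_fppfLocal {P : ModPair.Pair.{u}} [IsAffine P.total] [IsLocalRing Γ(P.total, ⊤)]
    (hP : PairLocal P) {a : Γ(P.total, ⊤)} (ha : a ∈ nonZeroDivisors Γ(P.total, ⊤))
    (hint : ModPair.interior P.mod = P.total.basicOpen a) (hsv : SemiVal Γ(P.total, ⊤) a)
    (X : Scheme.{u}) (R : Presieve X) (hR : R ∈ Scheme.precoverage fppfProp.{u} X)
    (g : (ModPair.interior P.mod : Scheme.{u}) ⟶ X) :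
    ∃ (Y : Scheme.{u}) (w : Y ⟶ X) (h : (ModPair.interior P.mod : Scheme.{u}) ⟶ Y),
      R w ∧ h ≫ w = g := by
  obtain ⟨hh, -⟩ := strictlyHenselian hP
  revert g
  rw [hint]
  intro g
  have : IsAffine (P.total.basicOpen a : Scheme.{u}) := (isAffineOpen_top P.total).basicOpen a
  have := (isAffineOpen_top P.total).isLocalization_basicOpen a
  let e := (P.total.basicOpen a).topIso.commRingCatIsoToRingEquiv
  letI : Algebra Γ(P.total, ⊤) Γ((P.total.basicOpen a : Scheme.{u}), ⊤) :=
    (e.symm.toRingHom.comp (algebraMap Γ(P.total, ⊤) Γ(P.total, P.total.basicOpen a))).toAlgebra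
  have : IsLocalization.Away a Γ((P.total.basicOpen a : Scheme.{u}), ⊤) :=
    IsLocalization.isLocalization_of_algEquiv (Submonoid.powers a)
      (AlgEquiv.ofRingEquiv (f := e.symm) fun _ => rfl :
        Γ(P.total, P.total.basicOpen a) ≃ₐ[Γ(P.total, ⊤)] Γ((P.total.basicOpen a : Scheme.{u}), ⊤))
  have := Hensel.henselian_away ha hsv Γ((P.total.basicOpen a : Scheme.{u}), ⊤)
  refine fppfLocal_of_retractions (fun B _ _ _ _ hB => Slice.exists_retraction (fun C _ _ _ _ _ => ?_) B hB)
    X R hR g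
  exact exists_retraction_away ha (fun C _ _ _ _ _ => free_retraction hP C) _ C

end Groth.Agent.ModPairLib.SemiVal.Fppf
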