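import Groth.Agent.ModPairLib.SemiVal.Section
import Groth.Agent.ModPairLib.Dense
import Groth.Agent.S18738
import Groth.Agent.BlowUp.Glue
import Groth.Agent.BlowUp.Basic
import Groth.Agent.BlowUpProper.Basic

/-!
# Modulus pairs which are local for Zariski coverings and admissible blow-ups
-/

set_option autoImplicit false

universe u

open CategoryTheory CategoryTheory.Limits AlgebraicGeometry TopologicalSpace
open Groth.Agent.IdealSh Groth.Agent.BlowUp
open ModPair

namespace Groth.Agent.ModPairLib.SemiVal.Pair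

open Ring

variable {P X : ModPair.Pair.{u}}

/-- For a minimal morphism `v`, factorisations on total spaces are factorisations of pairs. -/
lemma exists_hom_of_minimal {U : ModPair.Pair.{u}} {v : U ⟶ X}
    (hv : ModPair.IsMinimal U.mod X.mod v.hom) (g : P ⟶ X) (h : P.total ⟶ U.total)
    (e : h ≫ v.hom = g.hom) : ∃ k : P ⟶ U, k ≫ v = g := by
  refine ⟨⟨h, ?_⟩, ModPair.Pair.Hom.ext e⟩
  show P.mod ≤ U.mod.comap h
  rw [show U.mod = X.mod.comap v.hom from hv, ← Scheme.IdealSheafData.comap_comp, e]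
  exact g.cond

/-- The open subpair on an open of the total space. -/
noncomputable def opn (P : ModPair.Pair.{u}) (U : P.total.Opens) : ModPair.Pair.{u} :=
  ⟨U, P.mod.comap U.ι, EffCartier.comap_of_flat U.ι P.isEffCartier⟩

/-- The inclusion of an open subpair. -/
noncomputable def opnι (P : ModPair.Pair.{u}) (U : P.total.Opens) : opn P U ⟶ P :=
  ⟨U.ι, le_refl _⟩

lemma quasiCompact_opens_ι {Z : Scheme.{u}} [QuasiSeparatedSpace Z] {U : Z.Opens}
    (hU : IsAffineOpen U) : QuasiCompact U.ι := by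
  refine ⟨fun V hV hV' => ?_⟩
  rw [U.ι.isOpenEmbedding.isInducing.isCompact_iff, Set.image_preimage_eq_inter_range,
    Scheme.Opens.range_ι]
  exact QuasiSeparatedSpace.inter_isCompact _ _ hV hV' U.2 hU.isCompact

/-- A scheme with the property that every affine open covering has a member equal to the whole
space is affine with local ring of sections. -/
lemma affine_local_of_cover (T : Scheme.{u})
    (key : ∀ (ι : Type u) (V : ι → T.Opens), (∀ i, IsAffineOpen (V i)) →
      (∀ x, ∃ i, x ∈ V i) → ∃ i, V i = ⊤) :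
    IsAffine T ∧ IsLocalRing Γ(T, ⊤) := by
  choose U hxU _ using fun x : T => Comap.exists_affine_le x ⊤ trivial
  obtain ⟨x₀, hx₀⟩ := key T (fun x => (U x).1) (fun x => (U x).2) (fun x => ⟨x, hxU x⟩)
  have haff : IsAffine T := by
    have : IsAffine ((U x₀).1 : Scheme.{u}) := (U x₀).2
    rw [hx₀] at this
    have := this
    exact .of_isIso T.topIso.inv
  refine ⟨haff, ?_⟩
  have hntriv : Nontrivial Γ(T, ⊤) := by
    have : Nonempty (⊤ : T.Opens) := ⟨⟨x₀, trivial⟩⟩
    infer_instance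
  refine IsLocalRing.of_isUnit_or_isUnit_one_sub_self fun f => ?_
  obtain ⟨⟨b⟩, hb⟩ := key (ULift.{u} Bool)
    (fun b => T.basicOpen (cond b.down f (1 - f)))
    (fun b => (isAffineOpen_top T).basicOpen _) (fun x => by
      by_contra hne
      push Not at hne
      have h1 := hne ⟨true⟩
      have h2 := hne ⟨false⟩
      simp only [cond_true, cond_false] at h1 h2
      rw [← Scheme.toSpecΓ_preimage_basicOpen] at h1 h2
      replace h1 : f ∈ (T.toSpecΓ x).asIdeal := not_not.1 h1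
      replace h2 : 1 - f ∈ (T.toSpecΓ x).asIdeal := not_not.1 h2
      exact (T.toSpecΓ x).2.ne_top ((Ideal.eq_top_iff_one _).2
        (by simpa using (T.toSpecΓ x).asIdeal.add_mem h1 h2)))
  cases b
  · exact Or.inr (T.toRingedSpace.isUnit_of_isUnit_germ ⊤ (1 - f)
      fun x hx => (T.mem_basicOpen (1 - f) x hx).1 (hb.ge hx))
  · exact Or.inl (T.toRingedSpace.isUnit_of_isUnit_germ ⊤ f
      fun x hx => (T.mem_basicOpen f x hx).1 (hb.ge hx))

lemma affine_local_of_zar (P : ModPair.Pair.{u}) [QuasiSeparatedSpace P.total]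
    (hZ : ∀ (ι : Type u) (U : ι → ModPair.Pair.{u}) (v : ∀ i, U i ⟶ P),
      (∀ i, ModPair.IsMinimal (U i).mod P.mod (v i).hom ∧ IsOpenImmersion (v i).hom ∧
        QuasiCompact (v i).hom) →
      (∀ x : P.total, ∃ (i : ι) (y : (U i).total), (v i).hom.base y = x) →
      ∃ (i : ι) (h : P ⟶ U i), h ≫ v i = 𝟙 P) :
    IsAffine P.total ∧ IsLocalRing Γ(P.total, ⊤) := by
  have key : ∀ (ι : Type u) (V : ι → P.total.Opens), (∀ i, IsAffineOpen (V i)) →
      (∀ x, ∃ i, x ∈ V i) → ∃ i, V i = ⊤ := by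
    intro ι V hV hcov
    obtain ⟨i, h, e⟩ := hZ ι (fun i => opn P (V i)) (fun i => opnι P (V i))
      (fun i => ⟨rfl, inferInstanceAs (IsOpenImmersion (V i).ι), quasiCompact_opens_ι (hV i)⟩)
      (fun x => let ⟨i, hi⟩ := hcov x; ⟨i, ⟨x, hi⟩, rfl⟩)
    refine ⟨i, top_unique fun x _ => ?_⟩
    have e' : h.hom ≫ (V i).ι = 𝟙 P.total := congrArg ModPair.Pair.Hom.hom e
    have hx : ((h.hom ≫ (V i).ι) x) = x := by rw [e']; rfl
    rw [← hx]
    exact (h.hom x).2
  exact affine_local_of_cover P.total key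

/-- An affine scheme with local ring of global sections has a point to which all points
specialise. -/
lemma exists_closed_point (Y : Scheme.{u}) [IsAffine Y] [IsLocalRing Γ(Y, ⊤)] :
    ∃ p : Y, IsClosed ({p} : Set Y) ∧ ∀ y, y ⤳ p := by
  have hsp : ∀ y, y ⤳ Y.isoSpec.inv (IsLocalRing.closedPoint Γ(Y, ⊤)) := fun y => by
    have := (IsLocalRing.specializes_closedPoint (Y.isoSpec.hom y)).map Y.isoSpec.inv.continuous
    rwa [← Scheme.Hom.comp_apply, Iso.hom_inv_id] at this
  refine ⟨_, ?_, hsp⟩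
  rw [← Set.image_singleton]
  exact Y.isoSpec.inv.homeomorph.isClosedMap _ (IsLocalRing.isClosed_singleton_closedPoint _)

lemma specializes_of_isClosed {Y : Scheme.{u}} [IsAffine Y] [IsLocalRing Γ(Y, ⊤)] {p : Y}
    (hp : IsClosed ({p} : Set Y)) (y : Y) : y ⤳ p := by
  obtain ⟨p₀, -, h⟩ := exists_closed_point Y
  have : p₀ = p := by simpa using (h p).mem_closed hp rfl
  exact this ▸ h y

lemma eq_top_of_mem {Y : Scheme.{u}} {m : Y} (hm : ∀ y, y ⤳ m) {U : Y.Opens} (h : m ∈ U) : U = ⊤ :=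
  top_unique fun y _ => (hm y).mem_open U.2 h

lemma exists_equation (P : ModPair.Pair.{u}) [IsAffine P.total] [IsLocalRing Γ(P.total, ⊤)] :
    ∃ a : Γ(P.total, ⊤), a ∈ nonZeroDivisors Γ(P.total, ⊤) ∧
      P.mod.ideal ⟨⊤, isAffineOpen_top _⟩ = Ideal.span {a} ∧
      ModPair.interior P.mod = P.total.basicOpen a := by
  obtain ⟨m, -, hm⟩ := exists_closed_point P.total
  obtain ⟨⟨U, hU⟩, hmU, a, ha, he⟩ := P.isEffCartier m
  obtain rfl : U = ⊤ := eq_top_of_mem hm hmU
  refine ⟨a, ha, he, Opens.ext ?_⟩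
  rw [Regular.basicOpen_eq_compl_support he]
  show (P.mod.support : Set P.total)ᶜ =
    ((⊤ : P.total.Opens) : Set P.total) \ (P.mod.support : Set P.total)
  rw [Opens.coe_top, Set.compl_eq_univ_sdiff]

lemma semiVal_of_blowLocal (P : ModPair.Pair.{u}) [IsAffine P.total] [IsLocalRing Γ(P.total, ⊤)]
    (hB : ∀ (Q : ModPair.Pair.{u}) (q : Q ⟶ P), ModPair.Pair.admBlowup q →
      ∃ h : P ⟶ Q, h ≫ q = 𝟙 P)
    {a : Γ(P.total, ⊤)} (ha : a ∈ nonZeroDivisors Γ(P.total, ⊤))
    (hint : ModPair.interior P.mod = P.total.basicOpen a) : SemiVal Γ(P.total, ⊤) a := by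
  rintro x y ⟨n, hn⟩
  set F : Ideal Γ(P.total, ⊤) := Ideal.span {x, y}
  let 𝓕 := Scheme.IdealSheafData.ofIdealTop (X := P.total) F
  have hFtop : 𝓕.ideal ⟨⊤, isAffineOpen_top _⟩ = F := by
    show F.map (P.total.presheaf.map (homOfLE _).op).hom = F
    rw [Subsingleton.elim (homOfLE _).op (𝟙 _), CategoryTheory.Functor.map_id]
    exact Ideal.map_id _
  obtain ⟨Q', b, hb⟩ := Glue.exists_isBlowUp P.total 𝓕
  let Q : ModPair.Pair.{u} := ⟨Q', P.mod.comap b, Basic.isEffCartierIdeal_comap hb P.isEffCartier⟩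
  have hdisj : Disjoint (ModPair.interior P.mod : Set P.total) (𝓕.support : Set P.total) := by
    rw [Set.disjoint_left]
    intro z hz hz'
    rw [hint] at hz
    rw [Scheme.IdealSheafData.coe_support_ofIdealTop, Scheme.mem_zeroLocus_iff] at hz'
    have hzn : z ∈ P.total.basicOpen (a ^ (n + 1)) := by
      rwa [Scheme.basicOpen_pow _ _ n.succ_pos]
    exact hz' _ (Ideal.mem_of_dvd _ (dvd_mul_of_dvd_left hn a |>.trans (pow_succ a n).symm.dvd)
      (Ideal.subset_span (Set.mem_insert x _))) hzn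
  obtain ⟨h, e⟩ := hB Q ⟨b, le_refl _⟩ ⟨rfl,
    BlowUpProper.Basic.isProper_of_fg hb (fun z => ⟨⟨⊤, isAffineOpen_top _⟩, trivial, by
      rw [hFtop]; exact Submodule.fg_span (Set.toFinite _)⟩),
    Basic.isIso_restrict hb _ hdisj⟩
  have e' : h.hom ≫ b = 𝟙 P.total := congrArg ModPair.Pair.Hom.hom e
  obtain ⟨m, -, hm⟩ := exists_closed_point P.total
  obtain ⟨V, hmV, c, -, hce⟩ := hb.1 (h.hom m)
  have hle : (⊤ : P.total.Opens) ≤ h.hom ⁻¹ᵁ V.1 := (eq_top_of_mem hm hmV).ge
  have hspan : F = Ideal.span {(h.hom.appLE V.1 ⊤ hle).hom c} := by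
    have h1 := Comap.ideal_comap_span_singleton (𝓕.comap b) h.hom V ⟨⊤, isAffineOpen_top _⟩ hle hce
    rw [← Scheme.IdealSheafData.comap_comp, e', Scheme.IdealSheafData.comap_id, hFtop] at h1
    exact h1
  set d := (h.hom.appLE V.1 ⊤ hle).hom c
  obtain ⟨α, hα⟩ := Ideal.mem_span_singleton'.1
    (hspan.le (Ideal.subset_span (Set.mem_insert x _)))
  obtain ⟨β, hβ⟩ := Ideal.mem_span_singleton'.1
    (hspan.le (Ideal.subset_span (Set.mem_insert_of_mem x rfl)))
  obtain ⟨u₁, v₁, huv⟩ := Ideal.mem_span_pair.1 (hspan.ge (Ideal.mem_span_singleton_self d))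
  have hd : d ∈ nonZeroDivisors Γ(P.total, ⊤) := by
    obtain ⟨t, ht⟩ := hn
    have hp := pow_mem ha n
    rw [ht] at hp
    have hx := (mul_mem_nonZeroDivisors.1 hp).1
    rw [← hα] at hx
    exact (mul_mem_nonZeroDivisors.1 hx).2
  have h1 : (1 - (u₁ * α + v₁ * β)) * d = 0 := by
    linear_combination (-u₁) * hα + (-v₁) * hβ + (-1 : Γ(P.total, ⊤)) * huv
  have h2 := sub_eq_zero.1 ((mem_nonZeroDivisors_iff_right.1 hd) _ h1)
  rcases IsLocalRing.isUnit_or_isUnit_of_add_one h2.symm with hu | hu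
  · refine Or.inl ?_
    rw [← hα, ← hβ]
    exact mul_dvd_mul_right (isUnit_of_mul_isUnit_right hu).dvd d
  · refine Or.inr ?_
    rw [← hα, ← hβ]
    exact mul_dvd_mul_right (isUnit_of_mul_isUnit_right hu).dvd d

/-- Semi-valuation pairs lift along admissible blow-ups. -/
lemma blowLocal_of_semiVal [IsAffine P.total] [IsLocalRing Γ(P.total, ⊤)] {a : Γ(P.total, ⊤)}
    (ha : a ∈ nonZeroDivisors Γ(P.total, ⊤))
    (hint : ModPair.interior P.mod = P.total.basicOpen a) (hsv : SemiVal Γ(P.total, ⊤) a)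
    (Q : ModPair.Pair.{u}) (q : Q ⟶ X) (hq : ModPair.Pair.admBlowup q) (g : P ⟶ X) :
    ∃ h : P ⟶ Q, h ≫ q = g := by
  have := Groth.Agent.S18738.result.{u}
  obtain ⟨φ, hφ⟩ := MorphismProperty.HasRightCalculusOfFractions.exists_rightFraction
    (MorphismProperty.LeftFraction.mk (W := ModPair.Pair.admBlowup.{u}) g q hq)
  obtain ⟨hmin, hprop, hiso⟩ := φ.hs
  have hpre : P.total.isoSpec.hom ⁻¹ᵁ PrimeSpectrum.basicOpen a = P.total.basicOpen a :=
    P.total.toSpecΓ_preimage_basicOpen a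
  have hI : IsIso ((φ.s.hom ≫ P.total.isoSpec.hom) ∣_ PrimeSpectrum.basicOpen a) := by
    rw [morphismRestrict_comp]
    have h1 : IsIso (φ.s.hom ∣_ P.total.isoSpec.hom ⁻¹ᵁ PrimeSpectrum.basicOpen a) := by
      rw [hpre, ← hint]; exact hiso
    exact IsIso.comp_isIso' h1 inferInstance
  have hP : IsProper (φ.s.hom ≫ P.total.isoSpec.hom) := by
    have := hprop
    infer_instance
  obtain ⟨h, hh⟩ := Section.exists_section (R := Γ(P.total, ⊤)) ha hsv
    (φ.s.hom ≫ P.total.isoSpec.hom) rfl hI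
  have hsec : (P.total.isoSpec.hom ≫ h) ≫ φ.s.hom = 𝟙 P.total := by
    rw [← cancel_mono P.total.isoSpec.hom]
    simp only [Category.assoc, hh, Category.comp_id, Category.id_comp]
  obtain ⟨k, hk⟩ := exists_hom_of_minimal hmin (𝟙 P) _ hsec
  refine ⟨k ≫ φ.f, ?_⟩
  rw [Category.assoc, show φ.f ≫ q = φ.s ≫ g from hφ.symm, reassoc_of% hk]

/-- An affine pair with local ring of sections is local for open coverings. -/
lemma zarLocal_of_local [IsAffine P.total] [IsLocalRing Γ(P.total, ⊤)] {ι : Type u}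
    {U : ι → ModPair.Pair.{u}} (v : ∀ i, U i ⟶ X)
    (hv : ∀ i, ModPair.IsMinimal (U i).mod X.mod (v i).hom ∧ IsOpenImmersion (v i).hom)
    (hs : ∀ x : X.total, ∃ (i : ι) (y : (U i).total), (v i).hom.base y = x) (g : P ⟶ X) :
    ∃ (i : ι) (h : P ⟶ U i), h ≫ v i = g := by
  obtain ⟨m, -, hm⟩ := exists_closed_point P.total
  obtain ⟨i, y, hy⟩ := hs (g.hom m)
  have := (hv i).2
  have hr : Set.range g.hom ⊆ Set.range (v i).hom := by
    rintro _ ⟨z, rfl⟩
    exact ((hm z).map g.hom.continuous).mem_open (v i).hom.isOpenEmbedding.isOpen_range ⟨y, hy⟩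
  exact ⟨i, exists_hom_of_minimal (hv i).1 g _ (IsOpenImmersion.lift_fac (v i).hom g.hom hr)⟩

lemma notMem_iff [IsAffine P.total] {a : Γ(P.total, ⊤)}
    (hint : ModPair.interior P.mod = P.total.basicOpen a)
    {p : (ModPair.interior P.mod : Scheme.{u})} (hp : ∀ y, y ⤳ p) (x : Γ(P.total, ⊤)) :
    x ∉ (P.total.toSpecΓ.base ((ModPair.interior P.mod).ι.base p)).asIdeal ↔
      ∃ n : ℕ, x ∣ a ^ n := by
  rw [show x ∉ (P.total.toSpecΓ.base ((ModPair.interior P.mod).ι.base p)).asIdeal ↔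
      (ModPair.interior P.mod).ι.base p ∈ P.total.toSpecΓ ⁻¹ᵁ PrimeSpectrum.basicOpen x from Iff.rfl,
    P.total.toSpecΓ_preimage_basicOpen]
  have h1 : (ModPair.interior P.mod).ι.base p ∈ P.total.basicOpen x ↔
      ModPair.interior P.mod ≤ P.total.basicOpen x :=
    ⟨fun h z hz => ((hp ⟨z, hz⟩).map (ModPair.interior P.mod).ι.continuous).mem_open
      (P.total.basicOpen x).2 h, fun h => h p.2⟩
  rw [h1, hint]
  have h2 : P.total.basicOpen a ≤ P.total.basicOpen x ↔
      PrimeSpectrum.basicOpen a ≤ PrimeSpectrum.basicOpen x := by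
    constructor
    · intro h z hz
      obtain ⟨w, rfl⟩ := P.total.isoSpec.hom.surjective z
      rw [← P.total.toSpecΓ_preimage_basicOpen, ← P.total.toSpecΓ_preimage_basicOpen] at h
      exact h hz
    · intro h
      rw [← P.total.toSpecΓ_preimage_basicOpen, ← P.total.toSpecΓ_preimage_basicOpen]
      exact fun z hz => h hz
  rw [h2, PrimeSpectrum.basicOpen_le_basicOpen_iff]
  simp only [Ideal.mem_radical_iff, Ideal.mem_span_singleton]

lemma isAffine_interior [IsAffine P.total] {a : Γ(P.total, ⊤)}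
    (hint : ModPair.interior P.mod = P.total.basicOpen a) :
    IsAffine (ModPair.interior P.mod : Scheme.{u}) := by
  rw [hint]
  exact (isAffineOpen_top P.total).basicOpen a

lemma isLocalRing_interior [IsAffine P.total] [IsLocalRing Γ(P.total, ⊤)] {a : Γ(P.total, ⊤)}
    (ha : a ∈ nonZeroDivisors Γ(P.total, ⊤))
    (hint : ModPair.interior P.mod = P.total.basicOpen a) (hsv : SemiVal Γ(P.total, ⊤) a) :
    IsLocalRing Γ((ModPair.interior P.mod : Scheme.{u}), ⊤) := by
  rw [hint]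
  have := (isAffineOpen_top P.total).isLocalization_basicOpen a
  have := isLocalRing_away ha hsv Γ(P.total, P.total.basicOpen a)
  exact (P.total.basicOpen a).topIso.commRingCatIsoToRingEquiv.symm.isLocalRing

theorem semiVal_iff [IsAffine P.total] [IsLocalRing Γ(P.total, ⊤)] {a : Γ(P.total, ⊤)}
    (ha : a ∈ nonZeroDivisors Γ(P.total, ⊤))
    (hint : ModPair.interior P.mod = P.total.basicOpen a) :
    SemiVal Γ(P.total, ⊤) a ↔
    (IsLocalRing Γ((ModPair.interior P.mod : Scheme.{u}), ⊤) ∧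
      ∀ p : (ModPair.interior P.mod : Scheme.{u}),
        IsClosed ({p} : Set (ModPair.interior P.mod : Scheme.{u})) →
          ValuationRing (Γ(P.total, ⊤) ⧸
            (P.total.toSpecΓ.base ((ModPair.interior P.mod).ι.base p)).asIdeal) ∧
          Set.BijOn (algebraMap Γ(P.total, ⊤) (Localization.AtPrime
              (P.total.toSpecΓ.base ((ModPair.interior P.mod).ι.base p)).asIdeal))
            ((P.total.toSpecΓ.base ((ModPair.interior P.mod).ι.base p)).asIdeal : Set Γ(P.total, ⊤))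
            (IsLocalRing.maximalIdeal (Localization.AtPrime
              (P.total.toSpecΓ.base ((ModPair.interior P.mod).ι.base p)).asIdeal) :
              Set (Localization.AtPrime
                (P.total.toSpecΓ.base ((ModPair.interior P.mod).ι.base p)).asIdeal))) := by
  have := isAffine_interior hint
  constructor
  · intro hsv
    have := isLocalRing_interior ha hint hsv
    refine ⟨this, fun p hp => ?_⟩
    have hq := notMem_iff hint (specializes_of_isClosed hp)
    exact ⟨valuationRing_quotient hsv _ hq, bijOn_localization ha hsv _ hq⟩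
  · rintro ⟨hl, h⟩
    obtain ⟨p, hp, hps⟩ := exists_closed_point (ModPair.interior P.mod : Scheme.{u})
    obtain ⟨hv, hb⟩ := h p hp
    exact semiVal_of_conditions _ ha (notMem_iff hint hps) hb

end Groth.Agent.ModPairLib.SemiVal.Pair
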