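import Mathlib

/-!
# Semi-valuation rings

`SemiVal R a`: in the local ring `R`, any element dividing a power of `a` is comparable for
divisibility with every element.  For a nonzerodivisor `a` this says that `R` is the fibre product
of a valuation ring and the local ring `R[1/a]` over the residue field of the latter.
-/

set_option autoImplicit false

universe u

namespace Groth.Agent.ModPairLib.SemiVal.Ring

variable {R : Type u} [CommRing R] {a : R}

/-- Elements dividing a power of `a` are comparable with every element. -/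
def SemiVal (R : Type u) [CommRing R] (a : R) : Prop :=
  ∀ x y : R, (∃ n : ℕ, x ∣ a ^ n) → x ∣ y ∨ y ∣ x

lemma dvd_pow_mul {x y : R} (hx : ∃ n : ℕ, x ∣ a ^ n) (hy : ∃ n : ℕ, y ∣ a ^ n) :
    ∃ n : ℕ, x * y ∣ a ^ n := by
  obtain ⟨m, hm⟩ := hx
  obtain ⟨n, hn⟩ := hy
  exact ⟨m + n, pow_add a m n ▸ mul_dvd_mul hm hn⟩

lemma not_add [IsLocalRing R] (h : SemiVal R a) {x y : R} (hx : ¬∃ n : ℕ, x ∣ a ^ n)
    (hy : ¬∃ n : ℕ, y ∣ a ^ n) : ¬∃ n : ℕ, x + y ∣ a ^ n := by
  rintro ⟨n, hn⟩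
  rcases h (x + y) x ⟨n, hn⟩ with ⟨c, hc⟩ | hd
  · rcases IsLocalRing.isUnit_or_isUnit_one_sub_self c with hu | hu
    · refine hx ⟨n, dvd_trans ?_ hn⟩
      have h1 : (x + y) * c ∣ x + y := (hu.mul_right_dvd).2 dvd_rfl
      rwa [← hc] at h1
    · refine hy ⟨n, dvd_trans ?_ hn⟩
      have e : y = (x + y) * (1 - c) := by linear_combination (-1 : R) * hc
      have h1 : (x + y) * (1 - c) ∣ x + y := (hu.mul_right_dvd).2 dvd_rfl
      rwa [← e] at h1
  · exact hx ⟨n, hd.trans hn⟩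

/-- The prime of the elements dividing no power of `a`. -/
def prime [IsLocalRing R] (ha : a ∈ nonZeroDivisors R) (h : SemiVal R a) : Ideal R where
  carrier := {x | ¬∃ n : ℕ, x ∣ a ^ n}
  add_mem' hx hy := not_add h hx hy
  zero_mem' := by
    rintro ⟨n, hn⟩
    exact nonZeroDivisors.ne_zero (pow_mem ha n) (zero_dvd_iff.1 hn)
  smul_mem' c x hx := fun ⟨n, hn⟩ => hx ⟨n, (dvd_mul_left x c).trans hn⟩

lemma mem_prime [IsLocalRing R] {ha : a ∈ nonZeroDivisors R} {h : SemiVal R a} {x : R} :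
    x ∈ prime ha h ↔ ¬∃ n : ℕ, x ∣ a ^ n := Iff.rfl

lemma isPrime_prime [IsLocalRing R] (ha : a ∈ nonZeroDivisors R) (h : SemiVal R a) :
    (prime ha h).IsPrime := by
  refine ⟨fun e => (Ideal.eq_top_iff_one _).1 e ⟨0, one_dvd _⟩, fun {x y} hxy => ?_⟩
  by_contra hne
  push Not at hne
  obtain ⟨h1, h2⟩ := hne
  simp only [mem_prime, not_not] at h1 h2
  exact hxy (dvd_pow_mul h1 h2)

lemma pow_dvd_of_not (h : SemiVal R a) {x : R} (hx : ¬∃ n : ℕ, x ∣ a ^ n) (n : ℕ) :
    a ^ n ∣ x :=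
  (h (a ^ n) x ⟨n, dvd_rfl⟩).resolve_right fun hd => hx ⟨n, hd⟩

lemma pow_not_mem [IsLocalRing R] (ha : a ∈ nonZeroDivisors R) (h : SemiVal R a) (n : ℕ) :
    a ^ n ∉ prime ha h := fun hm => hm ⟨n, dvd_rfl⟩

lemma isUnit_algebraMap_iff (L : Type u) [CommRing L] [Algebra R L] [IsLocalization.Away a L]
    (x : R) : IsUnit (algebraMap R L x) ↔ ∃ n : ℕ, x ∣ a ^ n :=
  IsLocalization.Away.algebraMap_isUnit_iff a

lemma isLocalRing_away [IsLocalRing R] (ha : a ∈ nonZeroDivisors R) (h : SemiVal R a)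
    (L : Type u) [CommRing L] [Algebra R L] [IsLocalization.Away a L] : IsLocalRing L := by
  have hinj : Function.Injective (algebraMap R L) :=
    IsLocalization.injective (M := Submonoid.powers a) L (Submonoid.powers_le.2 ha)
  have : Nontrivial L := hinj.nontrivial
  refine IsLocalRing.of_nonunits_add fun u v hu hv => ?_
  obtain ⟨⟨x, ⟨_, i, rfl⟩⟩, hx⟩ := IsLocalization.surj (Submonoid.powers a) u
  obtain ⟨⟨y, ⟨_, j, rfl⟩⟩, hy⟩ := IsLocalization.surj (Submonoid.powers a) v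
  simp only at hx hy
  have hai : IsUnit (algebraMap R L (a ^ i)) := (isUnit_algebraMap_iff L _).2 ⟨i, dvd_rfl⟩
  have haj : IsUnit (algebraMap R L (a ^ j)) := (isUnit_algebraMap_iff L _).2 ⟨j, dvd_rfl⟩
  have hx' : x ∈ prime ha h := fun hh => hu (by
    have := (isUnit_algebraMap_iff L x).2 hh
    rw [← hx] at this
    exact isUnit_of_mul_isUnit_left this)
  have hy' : y ∈ prime ha h := fun hh => hv (by
    have := (isUnit_algebraMap_iff L y).2 hh
    rw [← hy] at this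
    exact isUnit_of_mul_isUnit_left this)
  intro huv
  have hsum : algebraMap R L (x * a ^ j + y * a ^ i) =
      (u + v) * (algebraMap R L (a ^ i) * algebraMap R L (a ^ j)) := by
    rw [map_add, map_mul, map_mul, ← hx, ← hy]
    ring
  have hU : IsUnit (algebraMap R L (x * a ^ j + y * a ^ i)) := hsum ▸ huv.mul (hai.mul haj)
  exact (prime ha h).add_mem ((prime ha h).mul_mem_right _ hx') ((prime ha h).mul_mem_right _ hy')
    ((isUnit_algebraMap_iff L _).1 hU)

lemma valuationRing_quotient [IsLocalRing R] (h : SemiVal R a) (q : Ideal R) [q.IsPrime]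
    (hq : ∀ x, x ∉ q ↔ ∃ n : ℕ, x ∣ a ^ n) : ValuationRing (R ⧸ q) := by
  refine ValuationRing.iff_dvd_total.2 ⟨fun x y => ?_⟩
  obtain ⟨x, rfl⟩ := Ideal.Quotient.mk_surjective x
  obtain ⟨y, rfl⟩ := Ideal.Quotient.mk_surjective y
  by_cases hx : x ∈ q
  · exact Or.inr (by rw [Ideal.Quotient.eq_zero_iff_mem.2 hx]; exact dvd_zero _)
  · exact (h x y ((hq x).1 hx)).imp (map_dvd _) (map_dvd _)

lemma bijOn_localization (ha : a ∈ nonZeroDivisors R) (h : SemiVal R a) (q : Ideal R) [q.IsPrime]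
    (hq : ∀ x, x ∉ q ↔ ∃ n : ℕ, x ∣ a ^ n) :
    Set.BijOn (algebraMap R (Localization.AtPrime q)) (q : Set R)
      (IsLocalRing.maximalIdeal (Localization.AtPrime q) : Set (Localization.AtPrime q)) := by
  have hnzd : q.primeCompl ≤ nonZeroDivisors R := fun s hs => by
    obtain ⟨n, t, ht⟩ := (hq s).1 hs
    have := pow_mem ha n
    rw [ht] at this
    exact (mul_mem_nonZeroDivisors.1 this).1
  refine ⟨fun x hx => (IsLocalization.AtPrime.to_map_mem_maximal_iff _ q x).2 hx,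
    fun x _ y _ e => IsLocalization.injective _ hnzd e, fun u hu => ?_⟩
  obtain ⟨x, ⟨s, hs⟩, rfl⟩ := IsLocalization.exists_mk'_eq q.primeCompl u
  have hx : x ∈ q := (IsLocalization.AtPrime.mk'_mem_maximal_iff _ q x ⟨s, hs⟩).1 hu
  rcases h s x ((hq s).1 hs) with ⟨c, rfl⟩ | ⟨c, rfl⟩
  · refine ⟨c, (‹q.IsPrime›.mem_or_mem hx).resolve_left hs, ?_⟩
    rw [IsLocalization.eq_mk'_iff_mul_eq, ← map_mul, mul_comm]
  · exact absurd (q.mul_mem_right c hx) hs

lemma semiVal_of_conditions (q : Ideal R) [q.IsPrime] (ha : a ∈ nonZeroDivisors R)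
    (hq : ∀ x, x ∉ q ↔ ∃ n : ℕ, x ∣ a ^ n) [ValuationRing (R ⧸ q)]
    (hb : Set.BijOn (algebraMap R (Localization.AtPrime q)) (q : Set R)
      (IsLocalRing.maximalIdeal (Localization.AtPrime q) : Set (Localization.AtPrime q))) :
    SemiVal R a := by
  have key : ∀ x y, x ∉ q → y ∈ q → x ∣ y := by
    intro x y hx hy
    obtain ⟨c, hc, e⟩ := hb.surjOn (show IsLocalization.mk' (Localization.AtPrime q) y
      (⟨x, hx⟩ : q.primeCompl) ∈ _ from (IsLocalization.AtPrime.mk'_mem_maximal_iff _ q y _).2 hy)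
    refine ⟨c, ?_⟩
    have hxc : x * c ∈ q := q.mul_mem_left x hc
    refine (hb.injOn hxc hy ?_).symm
    rw [map_mul, mul_comm]
    exact (IsLocalization.eq_mk'_iff_mul_eq.1 e)
  intro x y hx
  have hxq : x ∉ q := (hq x).2 hx
  by_cases hy : y ∈ q
  · exact Or.inl (key x y hxq hy)
  rcases ValuationRing.dvd_total (Ideal.Quotient.mk q x) (Ideal.Quotient.mk q y) with ⟨c, hc⟩ | ⟨c, hc⟩
  · obtain ⟨c, rfl⟩ := Ideal.Quotient.mk_surjective c
    rw [← map_mul, Ideal.Quotient.eq] at hc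
    exact Or.inl (by simpa using (key x _ hxq hc).add (dvd_mul_right x c))
  · obtain ⟨c, rfl⟩ := Ideal.Quotient.mk_surjective c
    rw [← map_mul, Ideal.Quotient.eq] at hc
    exact Or.inr (by simpa using (key y _ hy hc).add (dvd_mul_right y c))

end Groth.Agent.ModPairLib.SemiVal.Ring
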