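import Groth.Agent.ModPairLib.SemiVal.Ring
import Mathlib.AlgebraicGeometry.ValuativeCriterion
import Mathlib.AlgebraicGeometry.Morphisms.Proper

/-!
# Modifications of the spectrum of a semi-valuation ring have sections
-/

set_option autoImplicit false

universe u

open CategoryTheory CategoryTheory.Limits AlgebraicGeometry TopologicalSpace

namespace Groth.Agent.ModPairLib.SemiVal.Section

open Ring

/-- A proper morphism to the spectrum of a semi-valuation ring which is an isomorphism over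
`D(a)` has a section. -/
theorem exists_section {R : CommRingCat.{u}} [IsLocalRing R] {a : R}
    (ha : a ∈ nonZeroDivisors (R : Type u)) (hsv : SemiVal R a) {Q : Scheme.{u}} (q : Q ⟶ Spec R)
    [IsProper q] {U : (Spec R).Opens} (hU : U = PrimeSpectrum.basicOpen a) (hiso : IsIso (q ∣_ U)) :
    ∃ h : Spec R ⟶ Q, h ≫ q = 𝟙 _ := by
  let 𝔮 := prime ha hsv
  have : 𝔮.IsPrime := isPrime_prime ha hsv
  let V := (R : Type u) ⧸ 𝔮
  have : ValuationRing V := valuationRing_quotient hsv 𝔮 fun x => not_not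
  let K := FractionRing V
  let L := Localization.Away a
  have hinj : Function.Injective (algebraMap R L) :=
    IsLocalization.injective (M := Submonoid.powers a) L (Submonoid.powers_le.2 ha)
  -- the section over `D(a)`
  let jL : Spec (CommRingCat.of L) ⟶ Spec R :=
    Spec.map (CommRingCat.ofHom (algebraMap R L))
  have hjL : Set.range jL ⊆ Set.range U.ι := by
    rw [Scheme.Opens.range_ι, hU]
    exact (PrimeSpectrum.localization_away_comap_range L a).subset
  let s : Spec (CommRingCat.of L) ⟶ Q :=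
    IsOpenImmersion.lift U.ι jL hjL ≫ inv (q ∣_ U) ≫ (q ⁻¹ᵁ U).ι
  have hs : s ≫ q = jL := by
    simp only [s, Category.assoc, ← morphismRestrict_ι, IsIso.inv_hom_id_assoc,
      IsOpenImmersion.lift_fac]
  -- the map to the residue field
  have hK : IsUnit (algebraMap (R : Type u) K a) := by
    rw [isUnit_iff_ne_zero, IsScalarTower.algebraMap_apply (R : Type u) V K, ne_eq,
      map_eq_zero_iff _ (IsFractionRing.injective V K), Ideal.Quotient.algebraMap_eq,
      Ideal.Quotient.eq_zero_iff_mem]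
    simpa using pow_not_mem ha hsv 1
  let φ : L →+* K := IsLocalization.Away.lift a hK
  have hφ : ∀ x : R, φ (algebraMap R L x) = algebraMap V K (Ideal.Quotient.mk 𝔮 x) := fun x =>
    (IsLocalization.Away.lift_eq a hK x).trans (IsScalarTower.algebraMap_apply (R : Type u) V K x)
  let i₁ : Spec (CommRingCat.of K) ⟶ Q := Spec.map (CommRingCat.ofHom φ) ≫ s
  let i₂ : Spec (CommRingCat.of V) ⟶ Spec R :=
    Spec.map (CommRingCat.ofHom (Ideal.Quotient.mk 𝔮))
  have hcomm : CommSq i₁ (Spec.map (CommRingCat.ofHom (algebraMap V K))) q i₂ := ⟨by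
    simp only [i₁, i₂, Category.assoc, hs, jL, ← Spec.map_comp, ← CommRingCat.ofHom_comp]
    exact congrArg (fun f => Spec.map (CommRingCat.ofHom f)) (RingHom.ext hφ)⟩
  have hex : ValuativeCriterion.Existence q := by
    have h : UniversallyClosed q := inferInstance
    rw [UniversallyClosed.eq_valuativeCriterion] at h
    exact h.1
  obtain ⟨⟨l, hl₁, hl₂⟩⟩ := (hex { R := V, K := K, i₁ := i₁, i₂ := i₂, commSq := hcomm }).exists_lift
  -- an affine open containing the image of the closed point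
  obtain ⟨_, ⟨W, hW, rfl⟩, hlW, -⟩ := Q.isBasis_affineOpens.exists_subset_of_mem_open
    (Set.mem_univ (l (IsLocalRing.closedPoint V))) isOpen_univ
  have hlr : ∀ z, l z ∈ W := fun z =>
    ((IsLocalRing.specializes_closedPoint z).map l.continuous).mem_open W.2 hlW
  have hsr : ∀ z, s z ∈ W := by
    intro z
    let η : Spec (CommRingCat.of K) := IsLocalRing.closedPoint K
    have h1 : s (Spec.map (CommRingCat.ofHom φ) η) ∈ W := by
      rw [← Scheme.Hom.comp_apply, show Spec.map (CommRingCat.ofHom φ) ≫ s = _ from hl₁.symm,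
        Scheme.Hom.comp_apply]
      exact hlr _
    refine (Specializes.map ?_ s.continuous).mem_open W.2 h1
    refine (PrimeSpectrum.le_iff_specializes z _).1 ?_
    intro y hy
    show φ y ∈ IsLocalRing.maximalIdeal K
    rw [IsLocalRing.mem_maximalIdeal, mem_nonunits_iff, isUnit_iff_ne_zero, not_not]
    obtain ⟨⟨x, ⟨_, i, rfl⟩⟩, hx⟩ := IsLocalization.surj (Submonoid.powers a) y
    simp only at hx
    have hxq : x ∈ 𝔮 := by
      intro hh
      refine z.2.ne_top (Ideal.eq_top_of_isUnit_mem _ ?_ ((isUnit_algebraMap_iff L x).2 hh))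
      rw [← hx]
      exact z.asIdeal.mul_mem_right _ hy
    have h0 := congrArg φ hx
    rw [map_mul, hφ, hφ, Ideal.Quotient.eq_zero_iff_mem.2 hxq, map_zero] at h0
    refine (mul_eq_zero.1 h0).resolve_right ?_
    rw [map_eq_zero_iff _ (IsFractionRing.injective V K), Ideal.Quotient.eq_zero_iff_mem]
    exact pow_not_mem ha hsv i
  -- both factor through `W`
  have := hW.isOpenImmersion_fromSpec
  obtain ⟨ψ, hψ⟩ : ∃ ψ : Γ(Q, W) ⟶ CommRingCat.of L, Spec.map ψ ≫ hW.fromSpec = s := by
    refine ⟨Spec.preimage (IsOpenImmersion.lift hW.fromSpec s ?_), by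
      rw [Spec.map_preimage, IsOpenImmersion.lift_fac]⟩
    rw [hW.range_fromSpec]
    rintro _ ⟨z, rfl⟩
    exact hsr z
  obtain ⟨β, hβ⟩ : ∃ β : Γ(Q, W) ⟶ CommRingCat.of V, Spec.map β ≫ hW.fromSpec = l := by
    refine ⟨Spec.preimage (IsOpenImmersion.lift hW.fromSpec l ?_), by
      rw [Spec.map_preimage, IsOpenImmersion.lift_fac]⟩
    rw [hW.range_fromSpec]
    rintro _ ⟨z, rfl⟩
    exact hlr z
  -- compatibility in `K`
  have hagree : ψ ≫ CommRingCat.ofHom φ = β ≫ CommRingCat.ofHom (algebraMap V K) := by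
    apply Spec.map_injective
    rw [← cancel_mono hW.fromSpec]
    simp only [Spec.map_comp, Category.assoc, hψ, hβ]
    exact hl₁.symm
  -- the image of `ψ` lies in `R`
  have hrange : ∀ w : Γ(Q, W), ∃ c : R, algebraMap R L c = ψ.hom w := by
    intro w
    obtain ⟨c, hc⟩ := Ideal.Quotient.mk_surjective (β.hom w)
    obtain ⟨⟨x, ⟨_, n, rfl⟩⟩, hx⟩ := IsLocalization.surj (Submonoid.powers a) (ψ.hom w)
    simp only at hx
    have h0 : φ (ψ.hom w) = algebraMap V K (Ideal.Quotient.mk 𝔮 c) := by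
      rw [hc]
      exact congrArg (fun f => f.hom w) hagree
    have h1 := congrArg φ hx
    rw [map_mul, hφ, hφ, h0, ← map_mul, ← map_mul] at h1
    have h2 : x - c * a ^ n ∈ 𝔮 :=
      (Ideal.Quotient.eq).1 (IsFractionRing.injective V K h1).symm
    obtain ⟨e, he⟩ := pow_dvd_of_not hsv h2 n
    refine ⟨c + e, ?_⟩
    have hu : IsUnit (algebraMap R L (a ^ n)) := (isUnit_algebraMap_iff L _).2 ⟨n, dvd_rfl⟩
    refine hu.mul_right_cancel ?_
    rw [hx, ← map_mul]
    congr 1
    linear_combination (-1 : R) * he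
  choose σ₀ hσ₀ using hrange
  let σ : Γ(Q, W) →+* R :=
    { toFun := σ₀
      map_one' := hinj (by rw [hσ₀, map_one, map_one])
      map_mul' := fun x y => hinj (by rw [hσ₀, map_mul, map_mul, hσ₀, hσ₀])
      map_zero' := hinj (by rw [hσ₀, map_zero, map_zero])
      map_add' := fun x y => hinj (by rw [hσ₀, map_add, map_add, hσ₀, hσ₀]) }
  refine ⟨Spec.map (CommRingCat.ofHom σ) ≫ hW.fromSpec, ?_⟩
  obtain ⟨τ, hτ⟩ : ∃ τ : R ⟶ Γ(Q, W), hW.fromSpec ≫ q = Spec.map τ :=
    ⟨Spec.preimage _, (Spec.map_preimage _).symm⟩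
  have hψτ : τ ≫ ψ = CommRingCat.ofHom (algebraMap R L) := by
    apply Spec.map_injective
    rw [Spec.map_comp, ← hτ, reassoc_of% hψ, hs]
  rw [Category.assoc, hτ, ← Spec.map_comp, ← Spec.map_id]
  congr 1
  ext x
  refine hinj ?_
  show algebraMap R L (σ₀ (τ.hom x)) = algebraMap R L x
  rw [hσ₀]
  exact congrArg (fun f => f.hom x) hψτ

end Groth.Agent.ModPairLib.SemiVal.Section
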